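import Cfsg.Agent.Lib.E6Cov.SubTorus
import Cfsg.Agent.Lib.Helper3.G2TMAP
import Cfsg.Agent.S1080

/-!
# COV: lifting along `res : S~ → G`, compatibility with field maps
-/

set_option autoImplicit false
set_option linter.unusedSectionVars false
set_option linter.unusedVariables false

namespace Cfsg.Agent.E6Cov

open Cfsg Cfsg.Lie Cfsg.Agent.Lead.Chev Cfsg.Agent.Lead.Tw Cfsg.Agent.Helper11.G2T

variable {D D' : ChevalleyDatum} {e : ℕ → ℕ} (h : SubOK D D' e)
  {F : Type*} [Field F] {K : Type*} [Field K]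

theorem res_map (ι : F →+* K) (M : Matrix D'.Idx D'.Idx F) : res h (M.map ι) = (res h M).map ι := rfl

include h in
/-- the entrywise map of a ring homomorphism maps `S~(F)` into `S~(K)` -/
theorem map_mem_Stilde (ι : F →+* K) (hXF : XAdd D' F) (hXK : XAdd D' K) (g : GL D'.Idx F)
    (hg : g ∈ Stilde D e F hXF) : Matrix.GeneralLinearGroup.map ι g ∈ Stilde D e K hXK := by
  have hle : Stilde D e F hXF ≤ (Stilde D e K hXK).comap (Matrix.GeneralLinearGroup.map ι) := by
    unfold Stilde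
    rw [Subgroup.closure_le]
    rintro x ⟨r, hr, t, rfl⟩
    rw [SetLike.mem_coe, Subgroup.mem_comap, g2tmap_xGL_gen ι D' hXF hXK]
    exact Subgroup.subset_closure ⟨r, hr, ι t, rfl⟩
  exact hle hg

include h in
/-- the entrywise action of a field automorphism preserves `S~` -/
theorem Phi_mem_Stilde (f : K ≃+* K) (hXK : XAdd D' K) (g : GL D'.Idx K)
    (hg : g ∈ Stilde D e K hXK) : Cfsg.Agent.S1080.Phi D' f g ∈ Stilde D e K hXK := by
  have hle : Stilde D e K hXK ≤ (Stilde D e K hXK).comap (Cfsg.Agent.S1080.Phi D' f).toMonoidHom := by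
    unfold Stilde
    rw [Subgroup.closure_le]
    rintro x ⟨r, hr, t, rfl⟩
    rw [SetLike.mem_coe, Subgroup.mem_comap]
    show Cfsg.Agent.S1080.Phi D' f (xGL D' hXK (e r) t) ∈ _
    rw [g2tmap_Phi_xGL_gen D' hXK f]
    exact Subgroup.subset_closure ⟨r, hr, f t, rfl⟩
  exact hle hg

/-- `res` commutes with the entrywise map -/
theorem resS_map (ι : F →+* K) (hXF : XAdd D' F) (hXK : XAdd D' K) (g : ↥(Stilde D e F hXF)) :
    resS h hXK ⟨Matrix.GeneralLinearGroup.map ι g.1, map_mem_Stilde h ι hXF hXK g.1 g.2⟩ =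
      Matrix.GeneralLinearGroup.map ι (resS h hXF g) := by
  apply Units.ext
  rw [resS_val, g2tmap_coe_gen, g2tmap_coe_gen, resS_val]
  rfl

/-- `res` commutes with the entrywise action of a field automorphism -/
theorem resS_Phi (f : K ≃+* K) (hXK : XAdd D' K) (g : ↥(Stilde D e K hXK)) :
    resS h hXK ⟨Cfsg.Agent.S1080.Phi D' f g.1, Phi_mem_Stilde h f hXK g.1 g.2⟩ =
      Cfsg.Agent.S1080.Phi D f (resS h hXK g) := by
  apply Units.ext
  rw [resS_val, Cfsg.Agent.S1080.Phi_coe, Cfsg.Agent.S1080.Phi_coe, resS_val]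
  rfl

include h in
/-- every element of the torus of the small group lifts to a torus element of `S~` -/
theorem exists_torus_lift (hX : XAdd D K) (hX' : XAdd D' K) (y : GL D.Idx K) (hy : y ∈ D.diagonalSubgroup K) :
    ∃ y' : ↥(Stilde D e K hX'), y'.1 ∈ D'.diagonalSubgroup K ∧ resS h hX' y' = y := by
  unfold ChevalleyDatum.diagonalSubgroup at hy
  induction hy using Subgroup.closure_induction with
  | mem x hx =>
    obtain ⟨r, t, hr, ht, hx⟩ := hx
    have hmem : wordGL D' hX' (eWord e (D.hWord r t)) ∈ Stilde D e K hX' :=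
      wordGL_eWord_mem h hX' _ (hWord_lt h r hr t)
    refine ⟨⟨wordGL D' hX' (eWord e (D.hWord r t)), hmem⟩, ?_, ?_⟩
    · show wordGL D' hX' (eWord e (D.hWord r t)) ∈ D'.diagonalSubgroup K
      rw [eWord_hWord h r hr t]
      exact hGLt_mem_diagonal D' hX' (e r) (h.e_lt r hr) t ht
    · rw [resS_wordGL h hX hX' _ (hWord_lt h r hr t)]
      apply Units.ext
      rw [hx]
      exact hGLt_val D hX r t
  | one => exact ⟨1, one_mem _, map_one _⟩
  | mul a b _ _ iha ihb =>
    obtain ⟨a', ha1, ha2⟩ := iha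
    obtain ⟨b', hb1, hb2⟩ := ihb
    exact ⟨a' * b', mul_mem ha1 hb1, by rw [map_mul, ha2, hb2]⟩
  | inv a _ iha =>
    obtain ⟨a', ha1, ha2⟩ := iha
    exact ⟨a'⁻¹, inv_mem ha1, by rw [map_inv, ha2]⟩

end Cfsg.Agent.E6Cov
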