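import Cfsg.Agent.Lib.E6Cov.Ker
import Cfsg.Agent.Lib.E6Cov.CovLift
import Cfsg.Agent.Lib.Lead.ChevHConjN

/-!
# COV: the main covering lemma for `E₆ ⊂ E₈` (GL form)

If `g⁻¹ ι(y₀) g` is a torus element of `E₆(K)` (`y₀ ∈ E₆(F)`, `g ∈ E₆(K)` with `g⁻¹ σ(g) = t₁ n_w`), then it is the block of a
torus element `A` of `S~ ⊂ E₈(K)` with `n_w σ(A) n_w⁻¹ = A` (no central correction term).
-/

set_option autoImplicit false
set_option linter.unusedSectionVars false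
set_option linter.unusedVariables false

namespace Cfsg.Agent.E6Cov

open Cfsg Cfsg.Lie Cfsg.Agent.Lead.Chev Cfsg.Agent.Lead.Tw Cfsg.Agent.Helper11.G2T

variable {F : Type*} [Field F] {K : Type*} [Field K] [Fintype K]

theorem cov68 (hK : 12 ≤ Fintype.card K) (ι : F →+* K) (f : K ≃+* K) (hfι : ∀ t, f (ι t) = ι t)
    (hXF6 : XAdd chevE6 F) (hXF8 : XAdd chevE8 F) (hF6 : ChevFacts chevE6 K) (hF8 : ChevFacts chevE8 K)
    (g : GL chevE6.Idx K) (hg : g ∈ chevE6.group K)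
    (t₁ : GL chevE6.Idx K) (ht₁ : t₁ ∈ chevE6.diagonalSubgroup K) (w : List ℕ) (hw : ∀ i ∈ w, i < 6)
    (en : g⁻¹ * Cfsg.Agent.S1080.Phi chevE6 f g = t₁ * nWordGL chevE6 hF6.xadd w)
    (y0 : GL chevE6.Idx F) (hy0 : y0 ∈ chevE6.group F)
    (hy : g⁻¹ * Matrix.GeneralLinearGroup.map ι y0 * g ∈ chevE6.diagonalSubgroup K) :
    ∃ A : GL chevE8.Idx K, A ∈ Stilde chevE6 emb68 K hF8.xadd ∧ A ∈ chevE8.diagonalSubgroup K ∧
      res subOK68 (A : Matrix chevE8.Idx chevE8.Idx K) =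
        ((g⁻¹ * Matrix.GeneralLinearGroup.map ι y0 * g : GL chevE6.Idx K) : Matrix chevE6.Idx chevE6.Idx K) ∧
      nWordGL chevE8 hF8.xadd w * Cfsg.Agent.S1080.Phi chevE8 f A * (nWordGL chevE8 hF8.xadd w)⁻¹ = A := by
  have h := subOK68
  have h2 := subOK2_68
  set y := g⁻¹ * Matrix.GeneralLinearGroup.map ι y0 * g with hydef
  -- lifts
  obtain ⟨g', hg'⟩ := resS_surj h hF6.xadd hF8.xadd g hg
  obtain ⟨y0', hy0'⟩ := resS_surj h hXF6 hXF8 y0 hy0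
  obtain ⟨iy0, hiy0def⟩ : ∃ x : ↥(Stilde chevE6 emb68 K hF8.xadd), x =
    ⟨Matrix.GeneralLinearGroup.map ι y0'.1, map_mem_Stilde h ι hXF8 hF8.xadd y0'.1 y0'.2⟩ := ⟨_, rfl⟩
  have hiy0 : resS h hF8.xadd iy0 = Matrix.GeneralLinearGroup.map ι y0 := by
    rw [← hy0', hiy0def]
    exact resS_map h ι hXF8 hF8.xadd y0'
  obtain ⟨sg, hsgdef⟩ : ∃ x : ↥(Stilde chevE6 emb68 K hF8.xadd), x =
    ⟨Cfsg.Agent.S1080.Phi chevE8 f g'.1, Phi_mem_Stilde h f hF8.xadd g'.1 g'.2⟩ := ⟨_, rfl⟩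
  have hsg : resS h hF8.xadd sg = Cfsg.Agent.S1080.Phi chevE6 f g := by
    rw [← hg', hsgdef]
    exact resS_Phi h f hF8.xadd g'
  -- the element `A`
  obtain ⟨A, hAdef⟩ : ∃ x : ↥(Stilde chevE6 emb68 K hF8.xadd), x = g'⁻¹ * iy0 * g' := ⟨_, rfl⟩
  have hA : resS h hF8.xadd A = y := by
    rw [hAdef, map_mul, map_mul, map_inv, hg', hiy0]
  obtain ⟨y', hy'H, hy'⟩ := exists_torus_lift h hF6.xadd hF8.xadd y hy
  have hk1 : resS h hF8.xadd (A * y'⁻¹) = 1 := by rw [map_mul, map_inv, hA, hy', mul_inv_cancel]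
  have hk1' : res subOK68 (((A * y'⁻¹ : ↥(Stilde chevE6 emb68 K hF8.xadd)) : GL chevE8.Idx K) :
      Matrix chevE8.Idx chevE8.Idx K) = 1 := by
    rw [← resS_val h hF8.xadd (A * y'⁻¹), hk1]
    rfl
  have hkH := ker68_diag hK hF8 _ (A * y'⁻¹).2 hk1'
  have hAH : A.1 ∈ chevE8.diagonalSubgroup K := by
    have : A.1 = (A * y'⁻¹ : ↥(Stilde chevE6 emb68 K hF8.xadd)).1 * y'.1 := by
      rw [← Subgroup.coe_mul]
      congr 1
      group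
    rw [this]
    exact mul_mem hkH hy'H
  -- the element `n~ = g~⁻¹ σ(g~)`
  obtain ⟨n', hn'def⟩ : ∃ x : ↥(Stilde chevE6 emb68 K hF8.xadd), x = g'⁻¹ * sg := ⟨_, rfl⟩
  have hn' : resS h hF8.xadd n' = t₁ * nWordGL chevE6 hF6.xadd w := by
    rw [hn'def, map_mul, map_inv, hg', hsg, en]
  obtain ⟨t₁', ht₁'H, ht₁'⟩ := exists_torus_lift h hF6.xadd hF8.xadd t₁ ht₁
  have hw' : ∀ i ∈ w, i < chevE6.rank := hw
  obtain ⟨nw, hnwdef⟩ : ∃ x : ↥(Stilde chevE6 emb68 K hF8.xadd), x =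
    ⟨nWordGL chevE8 hF8.xadd w, nWordGL_mem_Stilde h h2 hF8.xadd w hw'⟩ := ⟨_, rfl⟩
  have hnw : resS h hF8.xadd nw = nWordGL chevE6 hF6.xadd w := by
    rw [hnwdef]
    exact resS_nWordGL h h2 hF6.xadd hF8.xadd w hw'
  have hk2 : resS h hF8.xadd (n' * (t₁' * nw)⁻¹) = 1 := by
    rw [map_mul, map_inv, map_mul, hn', ht₁', hnw, mul_inv_cancel]
  have hk2' : res subOK68 (((n' * (t₁' * nw)⁻¹ : ↥(Stilde chevE6 emb68 K hF8.xadd)) : GL chevE8.Idx K) :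
      Matrix chevE8.Idx chevE8.Idx K) = 1 := by
    rw [← resS_val h hF8.xadd (n' * (t₁' * nw)⁻¹), hk2]
    rfl
  have hk2H := ker68_diag hK hF8 _ (n' * (t₁' * nw)⁻¹).2 hk2'
  -- `n~ = d * n_w` with `d` diagonal
  set d : GL chevE8.Idx K := (n' * (t₁' * nw)⁻¹ : ↥(Stilde chevE6 emb68 K hF8.xadd)).1 * t₁'.1 with hd
  have hdH : d ∈ chevE8.diagonalSubgroup K := mul_mem hk2H ht₁'H
  have hn'd : n'.1 = d * nWordGL chevE8 hF8.xadd w := by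
    have e1 : n' = (n' * (t₁' * nw)⁻¹) * t₁' * nw := by group
    have e2 : n'.1 = (n' * (t₁' * nw)⁻¹ : ↥(Stilde chevE6 emb68 K hF8.xadd)).1 * t₁'.1 * nw.1 := by
      conv_lhs => rw [e1]
      rw [Subgroup.coe_mul, Subgroup.coe_mul]
    have hnw1 : nw.1 = nWordGL chevE8 hF8.xadd w := by rw [hnwdef]
    rw [hd, ← hnw1]
    exact e2
  -- `σ(A) = n~⁻¹ A n~`
  have hsg' : Cfsg.Agent.S1080.Phi chevE8 f g'.1 = g'.1 * n'.1 := by
    rw [hn'def, Subgroup.coe_mul, Subgroup.coe_inv, hsgdef]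
    group
  have hA1 : A.1 = g'.1⁻¹ * Matrix.GeneralLinearGroup.map ι y0'.1 * g'.1 := by
    rw [hAdef, Subgroup.coe_mul, Subgroup.coe_mul, Subgroup.coe_inv, hiy0def]
  have hsA : Cfsg.Agent.S1080.Phi chevE8 f A.1 = n'.1⁻¹ * A.1 * n'.1 := by
    rw [hA1, map_mul, map_mul, map_inv, g2tmap_Phi_map_gen ι chevE8 f hfι, hsg']
    group
  refine ⟨A.1, A.2, hAH, ?_, ?_⟩
  · rw [← resS_val h hF8.xadd A, hA]
  · rw [hsA, hn'd]
    have hc : d * A.1 = A.1 * d := hF8.diagonal_commute d A.1 hdH hAH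
    set n := nWordGL chevE8 hF8.xadd w
    calc n * ((d * n)⁻¹ * A.1 * (d * n)) * n⁻¹ = d⁻¹ * (A.1 * d) := by group
      _ = d⁻¹ * (d * A.1) := by rw [hc]
      _ = A.1 := by group

end Cfsg.Agent.E6Cov
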