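import Cfsg.Agent.Lib.E6Cov.SubTab

/-!
# E₆, E₇ inside E₈: further table facts (simple roots, positivity, monotonicity, fixed root vectors)
-/

set_option autoImplicit false

namespace Cfsg.Agent.E6Cov

open Cfsg Cfsg.Lie

/-- further compatibility facts; `fx` is a list of roots of the big datum whose root vectors are fixed by all
the root elements of the small datum -/
structure SubOK2 (D D' : ChevalleyDatum) (e : ℕ → ℕ) (fx : List ℕ) : Prop where
  simple : ∀ i < D.rank, D'.simple i = e (D.simple i)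
  simple_lt : ∀ i < D.rank, D.simple i < D.nroots
  pos : ∀ r < D.nroots, (D.IsPosRoot r ↔ D'.IsPosRoot (e r))
  mono : ∀ r < D.nroots, ∀ s < D.nroots, r < s → e r < e s
  fx_lt : ∀ v ∈ fx, v < D'.nroots
  fx_ne : ∀ r < D.nroots, ∀ v ∈ fx, v ≠ e r ∧ v ≠ D'.negIdx.getD (e r) 0
  fx_chain : ∀ r < D.nroots, ∀ v ∈ fx, ∀ u < D'.nroots, D'.chainCoeff (e r) v u = []

def subChk2 (D D' : ChevalleyDatum) (e : ℕ → ℕ) (fx : List ℕ) : Bool :=
  ((List.range D.rank).all fun i =>
    decide (D'.simple i = e (D.simple i)) && decide (D.simple i < D.nroots)) &&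
  ((List.range D.nroots).all fun r =>
    decide (D.IsPosRoot r ↔ D'.IsPosRoot (e r)) &&
    ((List.range D.nroots).all fun s => !decide (r < s) || decide (e r < e s)) &&
    (fx.all fun v => decide (v ≠ e r) && decide (v ≠ D'.negIdx.getD (e r) 0) &&
      ((List.range D'.nroots).all fun u => decide (D'.chainCoeff (e r) v u = [])))) &&
  (fx.all fun v => decide (v < D'.nroots))

theorem subOK2_of_chk (D D' : ChevalleyDatum) (e : ℕ → ℕ) (fx : List ℕ) (h : subChk2 D D' e fx = true) :
    SubOK2 D D' e fx := by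
  unfold subChk2 at h
  simp only [Bool.and_eq_true, List.all_eq_true, List.mem_range, Bool.or_eq_true, Bool.not_eq_true',
    decide_eq_true_eq, decide_eq_false_iff_not] at h
  obtain ⟨⟨h1, h2⟩, h3⟩ := h
  refine ⟨fun i hi => (h1 i hi).1, fun i hi => (h1 i hi).2, fun r hr => (h2 r hr).1.1, ?_, h3,
    fun r hr v hv => ((h2 r hr).2 v hv).1, fun r hr v hv u hu => ((h2 r hr).2 v hv).2 u hu⟩
  intro r hr s hs hlt
  rcases (h2 r hr).1.2 s hs with h4 | h4
  · exact absurd hlt h4
  · exact h4

set_option maxRecDepth 100000 in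
theorem chk2_68 : subChk2 chevE6 chevE8 emb68 [120, 238] = true := by decide +kernel

theorem subOK2_68 : SubOK2 chevE6 chevE8 emb68 [120, 238] := subOK2_of_chk _ _ _ _ chk2_68

end Cfsg.Agent.E6Cov
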