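import Cfsg.Agent.Lib.E6Cov.SubGrp
import Cfsg.Agent.Lib.E6Cov.SubTab2
import Cfsg.Agent.Lib.Lead.ChevDiagGroup

/-!
# `res` on the elements `n_w` and on the torus; the fixed root vectors
-/

set_option autoImplicit false
set_option linter.unusedSectionVars false
set_option linter.unusedVariables false

namespace Cfsg.Agent.E6Cov

open Cfsg Cfsg.Lie Cfsg.Agent.Lead.Chev

variable {D D' : ChevalleyDatum} {e : ℕ → ℕ} {fx : List ℕ} (h : SubOK D D' e) (h2 : SubOK2 D D' e fx)
  {F : Type*} [Field F] (hX : XAdd D F) (hX' : XAdd D' F)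

include h in
theorem eWord_nWord (r : ℕ) (hr : r < D.nroots) (t : F) : eWord e (D.nWord r t) = D'.nWord (e r) t := by
  unfold eWord ChevalleyDatum.nWord ChevalleyDatum.neg
  simp only [List.map_cons, List.map_nil]
  rw [h.neg r hr]

include h in
theorem eWord_hWord (r : ℕ) (hr : r < D.nroots) (t : F) : eWord e (D.hWord r t) = D'.hWord (e r) t := by
  unfold ChevalleyDatum.hWord
  rw [← eWord_nWord h r hr t, ← eWord_nWord h r hr (-1)]
  unfold eWord
  rw [List.map_append]

include h in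
theorem nWord_lt (r : ℕ) (hr : r < D.nroots) (t : F) : ∀ p ∈ D.nWord r t, p.1 < D.nroots := by
  intro p hp
  unfold ChevalleyDatum.nWord at hp
  simp only [List.mem_cons, List.not_mem_nil, or_false] at hp
  rcases hp with rfl | rfl | rfl
  · exact hr
  · exact h.neg_lt r hr
  · exact hr

include h in
theorem hWord_lt (r : ℕ) (hr : r < D.nroots) (t : F) : ∀ p ∈ D.hWord r t, p.1 < D.nroots := by
  intro p hp
  unfold ChevalleyDatum.hWord at hp
  rcases List.mem_append.1 hp with h1 | h1
  · exact nWord_lt h r hr t p h1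
  · exact nWord_lt h r hr (-1) p h1

include h in
theorem nGL_mem_Stilde (r : ℕ) (hr : r < D.nroots) : nGL D' hX' (e r) ∈ Stilde D e F hX' := by
  unfold nGL
  rw [← eWord_nWord h r hr]
  exact wordGL_eWord_mem h hX' _ (nWord_lt h r hr 1)

include h in
theorem resS_nGL (r : ℕ) (hr : r < D.nroots) :
    resS h hX' ⟨nGL D' hX' (e r), nGL_mem_Stilde h hX' r hr⟩ = nGL D hX r := by
  have e1 := resS_wordGL h hX hX' (D.nWord r (1 : F)) (nWord_lt h r hr 1)
  have e2 : (⟨nGL D' hX' (e r), nGL_mem_Stilde h hX' r hr⟩ : ↥(Stilde D e F hX')) =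
      ⟨wordGL D' hX' (eWord e (D.nWord r (1 : F))), wordGL_eWord_mem h hX' _ (nWord_lt h r hr 1)⟩ := by
    apply Subtype.ext
    show nGL D' hX' (e r) = wordGL D' hX' (eWord e (D.nWord r (1 : F)))
    unfold nGL
    rw [eWord_nWord h r hr]
  rw [e2, e1]
  rfl

include h h2 in
theorem nWordGL_mem_Stilde (w : List ℕ) (hw : ∀ i ∈ w, i < D.rank) :
    nWordGL D' hX' w ∈ Stilde D e F hX' := by
  induction w with
  | nil => exact one_mem _
  | cons i w ih =>
    rw [nWordGL_cons, h2.simple i (hw i List.mem_cons_self)]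
    exact mul_mem (nGL_mem_Stilde h hX' _ (h2.simple_lt i (hw i List.mem_cons_self)))
      (ih fun j hj => hw j (List.mem_cons_of_mem _ hj))

include h h2 in
theorem resS_nWordGL (w : List ℕ) (hw : ∀ i ∈ w, i < D.rank) :
    resS h hX' ⟨nWordGL D' hX' w, nWordGL_mem_Stilde h h2 hX' w hw⟩ = nWordGL D hX w := by
  induction w with
  | nil => exact map_one _
  | cons i w ih =>
    have hw' : ∀ j ∈ w, j < D.rank := fun j hj => hw j (List.mem_cons_of_mem _ hj)
    have hi := hw i List.mem_cons_self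
    have e1 : (⟨nWordGL D' hX' (i :: w), nWordGL_mem_Stilde h h2 hX' (i :: w) hw⟩ : ↥(Stilde D e F hX')) =
        ⟨nGL D' hX' (e (D.simple i)), nGL_mem_Stilde h hX' _ (h2.simple_lt i hi)⟩ *
          ⟨nWordGL D' hX' w, nWordGL_mem_Stilde h h2 hX' w hw'⟩ := by
      apply Subtype.ext
      rw [Subgroup.coe_mul]
      show nWordGL D' hX' (i :: w) = _
      rw [nWordGL_cons, h2.simple i hi]
    rw [e1, map_mul, ih hw', resS_nGL h hX hX' _ (h2.simple_lt i hi), nWordGL_cons]

/-! ### the torus -/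

include h in
theorem cartan_e (i : ℕ) (hi : i < D.rank) (v : ℕ) (hv : v < D.nroots) : D'.cartan i (e v) = D.cartan i v :=
  h.cartan i hi v hv

include h in
/-- the characters agree when the extra parameters are `1` -/
theorem chi_e (c : ℕ → F) (hc : ∀ i, D.rank ≤ i → c i = 1) (v : ℕ) (hv : v < D.nroots) :
    chi D' c (e v) = chi D c v := by
  unfold chi
  have hle := h.rank_le
  obtain ⟨k, hk⟩ := Nat.exists_eq_add_of_le hle
  rw [hk, List.range_add, List.map_append, List.prod_append]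
  have e1 : ((List.range D.rank).map fun i => c i ^ D'.cartan i (e v)) =
      (List.range D.rank).map fun i => c i ^ D.cartan i v := by
    apply List.map_congr_left
    intro i hi
    rw [cartan_e h i (List.mem_range.1 hi) v hv]
  have e2 : (((List.range k).map fun x => D.rank + x).map fun i => c i ^ D'.cartan i (e v)).prod = 1 := by
    apply List.prod_eq_one
    intro x hx
    obtain ⟨y, hy, rfl⟩ := List.mem_map.1 hx
    obtain ⟨z, hz, rfl⟩ := List.mem_map.1 hy
    rw [hc _ (Nat.le_add_right _ _), one_zpow]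
  rw [e1, e2, mul_one]

include h in
/-- the block of `T'(c)` is `T(c)` when the extra parameters are `1` -/
theorem res_Tmat (c : ℕ → F) (hc : ∀ i, D.rank ≤ i → c i = 1) : res h (Tmat D' c) = Tmat D c := by
  ext a b
  rw [res_apply]
  unfold Tmat
  rw [Matrix.diagonal_apply, Matrix.diagonal_apply]
  by_cases hab : a = b
  · rw [if_pos hab, if_pos (by rw [hab])]
    subst hab
    rcases a with i | v
    · rfl
    · simp only [ce_inr, Sum.elim_inr]
      exact chi_e h c hc v.val v.2
  · rw [if_neg hab, if_neg (fun h1 => hab (ce_injective h h1))]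

include h in
theorem inv_Tmat (c : ℕ → F) : Inv h (Tmat D' c) := by
  intro a' ha' b
  unfold Tmat
  rw [Matrix.diagonal_apply, if_neg]
  rintro rfl
  exact ha' ⟨b, rfl⟩

/-! ### the fixed root vectors -/

/-- the matrices whose column at the root vector `e_v` is the unit vector -/
def ColFix (D' : ChevalleyDatum) (F : Type*) [Field F] (v : Fin D'.nroots) (M : Matrix D'.Idx D'.Idx F) : Prop :=
  ∀ a', M a' (Sum.inr v) = if a' = Sum.inr v then 1 else 0

omit h in
theorem ColFix.mul {v : Fin D'.nroots} {M N : Matrix D'.Idx D'.Idx F} (hM : ColFix D' F v M)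
    (hN : ColFix D' F v N) : ColFix D' F v (M * N) := by
  intro a'
  rw [Matrix.mul_apply, Finset.sum_eq_single (Sum.inr v)]
  · rw [hN (Sum.inr v), if_pos rfl, mul_one]
    exact hM a'
  · intro b _ hb
    rw [hN b, if_neg hb, mul_zero]
  · intro hb
    exact absurd (Finset.mem_univ _) hb

omit h in
theorem ColFix.one (v : Fin D'.nroots) : ColFix D' F v (1 : Matrix D'.Idx D'.Idx F) := by
  intro a'
  rw [Matrix.one_apply]

include h h2 in
theorem colFix_x (r : ℕ) (hr : r < D.nroots) (t : F) (v : ℕ) (hv : v ∈ fx) :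
    ColFix D' F ⟨v, h2.fx_lt v hv⟩ (D'.x F (e r) t) := by
  rw [x_e h r hr]
  obtain ⟨hne1, hne2⟩ := h2.fx_ne r hr v hv
  intro a'
  have hvr : ¬ (⟨v, h2.fx_lt v hv⟩ : Fin D'.nroots) = ⟨e r, h.e_lt r hr⟩ := fun h1 => hne1 (congrArg Fin.val h1)
  rcases a' with i | u
  · simp only [ChevalleyDatum.xMat, Matrix.of_apply, if_neg hvr, if_neg hne2]
    rw [if_neg (by simp)]
  · simp only [ChevalleyDatum.xMat, Matrix.of_apply, if_neg hvr, if_neg hne2]
    rw [h2.fx_chain r hr v hv u.val u.2, List.map_nil, List.sum_nil, add_zero]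
    by_cases huv : u = ⟨v, h2.fx_lt v hv⟩
    · rw [if_pos huv, if_pos (by rw [huv])]
    · rw [if_neg huv, if_neg (fun h1 => huv (Sum.inr.inj h1))]

include h h2 in
/-- every element of `S~` fixes the root vectors `e_v`, `v ∈ fx` -/
theorem colFix_of_mem (g : GL D'.Idx F) (hg : g ∈ Stilde D e F hX') (v : ℕ) (hv : v ∈ fx) :
    ColFix D' F ⟨v, h2.fx_lt v hv⟩ (g : Matrix D'.Idx D'.Idx F) := by
  have key : ∀ g ∈ Stilde D e F hX', ColFix D' F ⟨v, h2.fx_lt v hv⟩ (g : Matrix D'.Idx D'.Idx F) ∧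
      ColFix D' F ⟨v, h2.fx_lt v hv⟩ ((g⁻¹ : GL D'.Idx F) : Matrix D'.Idx D'.Idx F) := by
    intro g hg
    unfold Stilde at hg
    induction hg using Subgroup.closure_induction with
    | mem x hx =>
      obtain ⟨r, hr, t, rfl⟩ := hx
      rw [xGL_inv]
      exact ⟨colFix_x h h2 r hr t v hv, colFix_x h h2 r hr (-t) v hv⟩
    | one =>
      rw [inv_one, Units.val_one]
      exact ⟨ColFix.one _, ColFix.one _⟩
    | mul x y _ _ ihx ihy =>
      rw [mul_inv_rev, Units.val_mul, Units.val_mul]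
      exact ⟨ihx.1.mul ihy.1, ihy.2.mul ihx.2⟩
    | inv x _ ihx =>
      rw [inv_inv]
      exact ⟨ihx.2, ihx.1⟩
  exact (key g hg).1

include h h2 in
/-- a torus element of `S~` has trivial character at the fixed root vectors -/
theorem chi_eq_one_of_mem (g : GL D'.Idx F) (hg : g ∈ Stilde D e F hX') (c : ℕ → F)
    (hgc : (g : Matrix D'.Idx D'.Idx F) = Tmat D' c) (v : ℕ) (hv : v ∈ fx) : chi D' c v = 1 := by
  have h1 := colFix_of_mem h h2 hX' g hg v hv (Sum.inr ⟨v, h2.fx_lt v hv⟩)
  rw [if_pos rfl, hgc] at h1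
  unfold Tmat at h1
  rw [Matrix.diagonal_apply, if_pos rfl] at h1
  exact h1

end Cfsg.Agent.E6Cov
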