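import Cfsg.Agent.Lib.E6Cov.SubChk68
import Cfsg.Agent.Lib.E6Cov.SubTorus

/-!
# `E₆` inside `E₈`: a torus element of `S~` has parameters `c₆ = c₇ = 1`
-/

set_option autoImplicit false
set_option linter.unusedSectionVars false
set_option linter.unusedVariables false

namespace Cfsg.Agent.E6Cov

open Cfsg Cfsg.Lie Cfsg.Agent.Lead.Chev

variable {F : Type*} [Field F]

set_option maxRecDepth 20000 in
theorem chi8_120 (c : ℕ → F) : chi chevE8 c 120 = (c 6)⁻¹ * c 7 ^ 2 := by
  have h0 : chevE8.cartan 0 120 = 0 := by decide +kernel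
  have h1 : chevE8.cartan 1 120 = 0 := by decide +kernel
  have h2 : chevE8.cartan 2 120 = 0 := by decide +kernel
  have h3 : chevE8.cartan 3 120 = 0 := by decide +kernel
  have h4 : chevE8.cartan 4 120 = 0 := by decide +kernel
  have h5 : chevE8.cartan 5 120 = 0 := by decide +kernel
  have h6 : chevE8.cartan 6 120 = -1 := by decide +kernel
  have h7 : chevE8.cartan 7 120 = 2 := by decide +kernel
  unfold chi
  have hr : chevE8.rank = 8 := rfl
  rw [hr]
  simp only [List.range_succ, List.range_zero, List.nil_append, List.cons_append, List.map_cons, List.map_nil,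
    List.prod_cons, List.prod_nil, h0, h1, h2, h3, h4, h5, h6, h7, zpow_zero, one_mul, mul_one, zpow_neg,
    zpow_one]
  norm_cast

set_option maxRecDepth 20000 in
theorem chi8_238 (c : ℕ → F) : chi chevE8 c 238 = c 6 * (c 7)⁻¹ := by
  have h0 : chevE8.cartan 0 238 = 0 := by decide +kernel
  have h1 : chevE8.cartan 1 238 = 0 := by decide +kernel
  have h2 : chevE8.cartan 2 238 = 0 := by decide +kernel
  have h3 : chevE8.cartan 3 238 = 0 := by decide +kernel
  have h4 : chevE8.cartan 4 238 = 0 := by decide +kernel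
  have h5 : chevE8.cartan 5 238 = 0 := by decide +kernel
  have h6 : chevE8.cartan 6 238 = 1 := by decide +kernel
  have h7 : chevE8.cartan 7 238 = -1 := by decide +kernel
  unfold chi
  have hr : chevE8.rank = 8 := rfl
  rw [hr]
  simp only [List.range_succ, List.range_zero, List.nil_append, List.cons_append, List.map_cons, List.map_nil,
    List.prod_cons, List.prod_nil, h0, h1, h2, h3, h4, h5, h6, h7, zpow_zero, one_mul, mul_one, zpow_neg,
    zpow_one]

/-- a torus element of `S~ ⊂ E₈(F)` has `c₆ = c₇ = 1` -/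
theorem torus_params68 (hX' : XAdd chevE8 F) (g : GL chevE8.Idx F) (hg : g ∈ Stilde chevE6 emb68 F hX')
    (c : ℕ → F) (hc : ∀ i < 8, c i ≠ 0) (hgc : (g : Matrix chevE8.Idx chevE8.Idx F) = Tmat chevE8 c) :
    c 6 = 1 ∧ c 7 = 1 := by
  have e1 := chi_eq_one_of_mem subOK68 subOK2_68 hX' g hg c hgc 120 (by simp)
  have e2 := chi_eq_one_of_mem subOK68 subOK2_68 hX' g hg c hgc 238 (by simp)
  rw [chi8_120] at e1
  rw [chi8_238] at e2
  have h6 := hc 6 (by norm_num)
  have h7 := hc 7 (by norm_num)
  have e3 : c 6 = c 7 := by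
    field_simp at e2
    exact e2
  rw [e3] at e1
  have e4 : c 7 = 1 := by
    field_simp at e1
    exact e1
  exact ⟨by rw [e3, e4], e4⟩

end Cfsg.Agent.E6Cov
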