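import Cfsg.Agent.Lib.E6Cov.KerDefs

/-!
# S2373 cover trick, piece KER-B -- STUB (helper24's farm, row S2373)

The Borel case: `u ∈ U' ∩ S~` commuting with `s`, `n` diagonal, `res (u * n) = 1`  ==>  `u = 1`.
Proof: (1) as in KER-U, `u = prodL D' D'.posRoots t` (or `subFrom D' (fun _ => true) 0`) with `t r' = 0` unless `r' = e r`.
(2) LEMMA (induction on `L'`): if `t r' = 0` for `r' ∈ L'` outside the image then
`res h (prodL D' L' t) = prodL D (L'.filterMap einv) (fun r => t (e r))` (use `res_mul` with `Inv` from `Stilde_le_stab`/`xGL_mem_Stilde`,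
`resS_xGL` / `xMat_ce`, `hP.spec`); with `hP.pos` this gives `res u = prodL D D.posRoots (t ∘ e)`, an element of `D.posUnipotent K`,
so its diagonal entries are `1` (`hF.posUnipotent_entry`).  (3) `n = Tmat D' c` (`exists_Tmat_of_mem`), `inv_Tmat`, `res_mul`:
`res (u*n) = res u * res n`, `res n` diagonal (`res h (Tmat D' c)` is `Matrix.diagonal _`: entries of `Tmat` at `ce h b`);
diagonal entries of `res u * res n = 1` give `res n = 1`, hence `res u = 1 = prodL D D.posRoots 0`, and `prodL_posRoots_inj`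
(Lead/ChevU3, via `hF.ufacts`) gives `t (e r) = 0` for all positive `r`; so all `t r' = 0` on `D'.posRoots` and `u = 1`.
Keep name/statement/namespace (if you NEED one more hypothesis that `ker_diag` in `Lib/E6Cov/Ker.lean` can supply, add it
and post on the board); aux names prefixed `kerb_`; no own sorry; scan; land; mark done.
-/

set_option autoImplicit false
set_option linter.unusedSectionVars false
set_option linter.unusedVariables false

namespace Cfsg.Agent.E6Cov

open Cfsg Cfsg.Lie Cfsg.Agent.Lead.Chev Cfsg.Agent.Lead.Tw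

variable {D D' : ChevalleyDatum} {e : ℕ → ℕ} {einv : ℕ → Option ℕ} {K : Type*} [Field K] {c0 : ℕ → K}

/-- the LEMMA: the block of an ordered product whose coordinates vanish off the image of `e` -/
theorem kerb_res_prodL (h : SubOK D D' e) (hP : PosInv D D' e einv) (hX' : XAdd D' K)
    (t : ℕ → K) (L' : List ℕ) (hL' : ∀ r' ∈ L', r' < D'.nroots)
    (ht : ∀ r' ∈ L', (∀ r < D.nroots, e r ≠ r') → t r' = 0) :
    Inv h (prodL D' L' t) ∧
      res h (prodL D' L' t) = prodL D (L'.filterMap einv) (fun r => t (e r)) := by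
  induction L' with
  | nil =>
    rw [prodL_nil, List.filterMap_nil, prodL_nil]
    exact ⟨Inv.one h, res_one h⟩
  | cons r' L' ih =>
    have hL'' : ∀ s ∈ L', s < D'.nroots := fun s hs => hL' s (List.mem_cons_of_mem _ hs)
    have ht'' : ∀ s ∈ L', (∀ r < D.nroots, e r ≠ s) → t s = 0 :=
      fun s hs => ht s (List.mem_cons_of_mem _ hs)
    obtain ⟨ih1, ih2⟩ := ih hL'' ht''
    rw [prodL_cons]
    by_cases him : ∃ r < D.nroots, e r = r'
    · obtain ⟨r, hr, rfl⟩ := him
      have hinv : einv (e r) = some r := (hP.spec (e r) r).2 ⟨hr, rfl⟩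
      rw [List.filterMap_cons_some hinv, prodL_cons]
      refine ⟨(inv_x h r hr _).mul h ih1, ?_⟩
      rw [res_mul h _ _ ih1, res_x h r hr, ih2]
    · have hnone : einv r' = none := by
        cases hq : einv r' with
        | none => rfl
        | some r =>
          exfalso
          have h1 := (hP.spec r' r).1 hq
          exact him ⟨r, h1.1, h1.2⟩
      have ht0 : t r' = 0 := ht r' List.mem_cons_self (fun r hr he => him ⟨r, hr, he⟩)
      rw [List.filterMap_cons_none hnone, ht0, hX'.zero r' (hL' r' List.mem_cons_self), one_mul]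
      exact ⟨ih1, ih2⟩

/-- PIECE KER-B: the Borel case -/
theorem ker_borel (h : SubOK D D' e) (hP : PosInv D D' e einv) (hF : ChevFacts D K) (hF' : ChevFacts D' K)
    (hG : GenTorus D D' e K c0)
    (s : GL D'.Idx K) (hs : (s : Matrix D'.Idx D'.Idx K) = Tmat D' c0)
    (u n : GL D'.Idx K) (hu : u ∈ D'.posUnipotent K) (huS : u ∈ Stilde D e K hF'.xadd) (hus : s * u = u * s)
    (hn : n ∈ D'.diagonalSubgroup K)
    (hres : res h ((u * n : GL D'.Idx K) : Matrix D'.Idx D'.Idx K) = 1) : u = 1 := by
  have hadd' := hF'.xadd.add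
  have hzero' := hF'.xadd.zero
  obtain ⟨t, ht⟩ := exists_prodL_of_mem D' hadd' hzero' hF'.comm hF'.poscomm u hu
  have hposlt : ∀ r' ∈ D'.posRoots, r' < D'.nroots := by
    intro r' hr'
    rw [← posFrom_zero, mem_posFrom] at hr'
    exact hr'.2.1
  -- the commutation with `s`
  have hchi : ∀ r', D'.IsPosRoot r' → chi D' c0 r' * t r' = t r' := by
    have hkey : (s : Matrix D'.Idx D'.Idx K) * prodL D' D'.posRoots t =
        prodL D' D'.posRoots (fun r => chi D' c0 r * t r) * (s : Matrix D'.Idx D'.Idx K) := by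
      rw [hs]
      exact Cfsg.Agent.Helper13.OInv.fixu_Tmat_prodL hF' c0 hG.ne _ hposlt t
    have h1 : (s : Matrix D'.Idx D'.Idx K) * (u : Matrix D'.Idx D'.Idx K) =
        (u : Matrix D'.Idx D'.Idx K) * (s : Matrix D'.Idx D'.Idx K) := by
      rw [← Units.val_mul, ← Units.val_mul, hus]
    rw [ht, hkey] at h1
    have h2 : prodL D' D'.posRoots (fun r => chi D' c0 r * t r) = prodL D' D'.posRoots t := by
      have h3 := congrArg (· * ((s⁻¹ : GL D'.Idx K) : Matrix D'.Idx D'.Idx K)) h1
      simp only [mul_assoc] at h3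
      rw [← Units.val_mul, mul_inv_cancel, Units.val_one, mul_one, mul_one] at h3
      exact h3
    exact prodL_posRoots_inj D' hF'.ufacts hadd' hzero' _ _ h2
  have ht0 : ∀ r' ∈ D'.posRoots, (∀ r < D.nroots, e r ≠ r') → t r' = 0 := by
    intro r' hr' hne
    have hpos : D'.IsPosRoot r' := by
      rw [← posFrom_zero, mem_posFrom] at hr'
      exact hr'.2
    have h1 := hchi r' hpos
    have h2 := hG.ne_one r' hpos.1 hne
    have h3 : (chi D' c0 r' - 1) * t r' = 0 := by rw [sub_mul, one_mul, h1, sub_self]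
    rcases mul_eq_zero.mp h3 with h4 | h4
    · exact absurd (sub_eq_zero.mp h4) h2
    · exact h4
  obtain ⟨hInvU, hresU⟩ := kerb_res_prodL h hP hF'.xadd t D'.posRoots hposlt ht0
  rw [hP.pos] at hresU
  -- the diagonal part
  obtain ⟨c, hc, hn'⟩ := exists_Tmat_of_mem D' hF'.hall n hn
  rw [Units.val_mul, hn', res_mul h _ _ (inv_Tmat h c), ht, hresU] at hres
  obtain ⟨g, hg, hgw⟩ := exists_mem_of_posWord D hF.xadd.add hF.xadd.zero
    (D.posRoots.map fun r => (r, t (e r))) (by
      intro q hq
      obtain ⟨r, hr, rfl⟩ := List.mem_map.1 hq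
      rw [← posFrom_zero, mem_posFrom] at hr
      exact hr.2)
  have hg' : (g : Matrix D.Idx D.Idx K) = prodL D D.posRoots (fun r => t (e r)) := hgw
  have hd : res h (Tmat D' c) = Matrix.diagonal (fun b => Tmat D' c (ce h b) (ce h b)) := by
    ext a b
    rw [res_apply, Matrix.diagonal_apply]
    by_cases hab : a = b
    · rw [if_pos hab, hab]
    · rw [if_neg hab]
      unfold Tmat
      rw [Matrix.diagonal_apply, if_neg (fun h1 => hab (ce_injective h h1))]
  have hdiag : ∀ a : D.Idx, Tmat D' c (ce h a) (ce h a) = 1 := by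
    intro a
    have h1 := congrFun (congrFun hres a) a
    rw [Matrix.one_apply_eq, hd, Matrix.mul_diagonal, ← hg',
      hF.posUnipotent_entry g hg a a le_rfl, if_pos rfl, one_mul] at h1
    exact h1
  have hresn : res h (Tmat D' c) = 1 := by
    rw [hd]
    ext a b
    rw [Matrix.diagonal_apply, Matrix.one_apply]
    by_cases hab : a = b
    · rw [if_pos hab, if_pos hab]
      exact hdiag a
    · rw [if_neg hab, if_neg hab]
  rw [hresn, mul_one] at hres
  have hzeroL : prodL D D.posRoots (fun _ => (0 : K)) = 1 :=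
    prodL_zero D _ (fun s hs => by
      rw [← posFrom_zero, mem_posFrom] at hs
      exact hs.2.1) hF.xadd.zero
  have hte : ∀ r, D.IsPosRoot r → t (e r) = 0 := by
    intro r hr
    exact prodL_posRoots_inj D hF.ufacts hF.xadd.add hF.xadd.zero _ _ (hres.trans hzeroL.symm) r hr
  have hall : ∀ r' ∈ D'.posRoots, t r' = (fun _ => (0 : K)) r' := by
    intro r' hr'
    by_cases him : ∃ r < D.nroots, e r = r'
    · obtain ⟨r, hr, rfl⟩ := him
      have hinv : einv (e r) = some r := (hP.spec (e r) r).2 ⟨hr, rfl⟩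
      have hmem : r ∈ D'.posRoots.filterMap einv := List.mem_filterMap.2 ⟨e r, hr', hinv⟩
      rw [hP.pos, ← posFrom_zero, mem_posFrom] at hmem
      exact hte r hmem.2
    · exact ht0 r' hr' (fun r hr he => him ⟨r, hr, he⟩)
  apply Units.ext
  rw [ht, Units.val_one, prodL_congr D' _ t (fun _ => 0) hall]
  exact prodL_zero D' _ hposlt hzero'

end Cfsg.Agent.E6Cov
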