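import Cfsg.Agent.Lib.E6Cov.KerDefs

/-!
# S2373 cover trick, piece KER-GEN  (helper24's farm, row S2373; proved by helper14)

Existence of the generic torus element for `E6 ⊂ E8`.  Take `γ` a generator of `Kˣ` (cyclic, order `|K| - 1 ≥ 11`) and
`c0 i = γ ^ m i` with `m = (6, 9, 12, 18, 15, 12, 9, 5)` (`c0 i = 1` for `i ≥ 8`).  Then `chi chevE8 c0 r' = γ ^ ℓ r'` with
`ℓ r' = ∑ i < 8, m i * chevE8.cartan i r'` (= coefficient of α7 plus coefficient of α8 of the root `r'`), and (checked by script;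
prove by `decide`/`decide +kernel` on the tables): `ℓ (emb68 r) = 0` for `r < 72`; `ℓ r' ∈ [-5,5]` and `ℓ r' ≠ 0` for `r' < 240`
outside the image of `emb68`; `1 ≤ ℓ r'` for positive `r'` outside the image; `ℓ s' ≤ 0` for negative `s'`.  `γ ^ a = γ ^ b`
with `|a - b| ≤ 10 < orderOf γ` forces `a = b` (`zpow_eq_zpow_iff_modEq` / `orderOf_dvd_iff_zpow_eq_one`).
Keep name/statement/namespace (if you NEED one more hypothesis that `ker_diag` in `Lib/E6Cov/Ker.lean` can supply, add it
and post on the board); aux names prefixed `kergen_`; no own sorry; scan; land; mark done.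
-/

set_option autoImplicit false
set_option linter.unusedSectionVars false
set_option linter.unusedVariables false

namespace Cfsg.Agent.E6Cov

open Cfsg Cfsg.Lie Cfsg.Agent.Lead.Chev Cfsg.Agent.Lead.Tw

/-- the exponents `m i` -/
def kergen_m : List ℕ := [6, 9, 12, 18, 15, 12, 9, 5]

/-- the level `ℓ r' = ∑ i, m i * A_{i, r'}` of a root of `E8` -/
def kergen_l (D : ChevalleyDatum) (m : ℕ → ℕ) (r : ℕ) : ℤ :=
  ((List.range D.rank).map fun i => ((m i : ℕ) : ℤ) * D.cartan i r).sum

theorem kergen_chi {K : Type*} [Field K] (D : ChevalleyDatum) (g : Kˣ) (m : ℕ → ℕ) (v : ℕ) :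
    chi D (fun i => ((g : K)) ^ (m i)) v = ((g ^ (kergen_l D m v) : Kˣ) : K) := by
  unfold chi kergen_l
  generalize List.range D.rank = l
  induction l with
  | nil => simp
  | cons a l ih =>
    rw [List.map_cons, List.prod_cons, ih, List.map_cons, List.sum_cons, zpow_add, Units.val_mul]
    congr 1
    rw [zpow_mul, zpow_natCast, Units.val_zpow_eq_zpow_val, Units.val_pow_eq_pow_val]

theorem kergen_zpow_ne_one {G : Type*} [Group G] (g : G) (h11 : 11 ≤ orderOf g) (n : ℤ) (hn : n ≠ 0)
    (h1 : -10 ≤ n) (h2 : n ≤ 10) : g ^ n ≠ 1 := by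
  intro h
  have hd : (orderOf g : ℤ) ∣ n := orderOf_dvd_iff_zpow_eq_one.2 h
  have hd2 : orderOf g ∣ n.natAbs := by
    have := Int.natAbs_dvd_natAbs.2 hd
    simpa using this
  have hpos : 0 < n.natAbs := Int.natAbs_pos.2 hn
  have := Nat.le_of_dvd hpos hd2
  omega

/-- the table facts -/
def kergen_chk : Bool :=
  ((List.range 72).all fun r => decide (kergen_l chevE8 (fun i => kergen_m.getD i 0) (emb68 r) = 0)) &&
  ((List.range 240).all fun r' =>
    decide (-5 ≤ kergen_l chevE8 (fun i => kergen_m.getD i 0) r') &&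
    decide (kergen_l chevE8 (fun i => kergen_m.getD i 0) r' ≤ 5) &&
    (((List.range 72).any fun r => decide (emb68 r = r')) ||
      (decide (kergen_l chevE8 (fun i => kergen_m.getD i 0) r' ≠ 0) &&
        (!decide (chevE8.IsPosRoot r') || decide (1 ≤ kergen_l chevE8 (fun i => kergen_m.getD i 0) r')))) &&
    (!decide (chevE8.IsNegRoot r') || decide (kergen_l chevE8 (fun i => kergen_m.getD i 0) r' ≤ 0)))

set_option maxRecDepth 100000 in
theorem kergen_chk_true : kergen_chk = true := by decide +kernel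

theorem kergen_facts :
    (∀ r < 72, kergen_l chevE8 (fun i => kergen_m.getD i 0) (emb68 r) = 0) ∧
    (∀ r' < 240, -5 ≤ kergen_l chevE8 (fun i => kergen_m.getD i 0) r' ∧
      kergen_l chevE8 (fun i => kergen_m.getD i 0) r' ≤ 5 ∧
      ((∀ r < 72, emb68 r ≠ r') → kergen_l chevE8 (fun i => kergen_m.getD i 0) r' ≠ 0 ∧
        (chevE8.IsPosRoot r' → 1 ≤ kergen_l chevE8 (fun i => kergen_m.getD i 0) r')) ∧
      (chevE8.IsNegRoot r' → kergen_l chevE8 (fun i => kergen_m.getD i 0) r' ≤ 0)) := by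
  have h := kergen_chk_true
  unfold kergen_chk at h
  simp only [Bool.and_eq_true, List.all_eq_true, List.any_eq_true, List.mem_range, Bool.or_eq_true,
    Bool.not_eq_true', decide_eq_true_eq, decide_eq_false_iff_not] at h
  obtain ⟨h1, h2⟩ := h
  refine ⟨h1, fun r' hr' => ?_⟩
  obtain ⟨⟨⟨ha, hb⟩, hc⟩, hd⟩ := h2 r' hr'
  refine ⟨ha, hb, ?_, ?_⟩
  · intro hne
    rcases hc with ⟨r, hr, he⟩ | ⟨hc1, hc2⟩
    · exact absurd he (hne r hr)
    · refine ⟨hc1, fun hp => ?_⟩
      rcases hc2 with hc2 | hc2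
      · exact absurd hp hc2
      · exact hc2
  · intro hn
    rcases hd with hd | hd
    · exact absurd hn hd
    · exact hd

/-- PIECE KER-GEN: a generic torus element for `E6 ⊂ E8` -/
theorem gen_torus68 {K : Type*} [Field K] [Fintype K] (hK : 12 ≤ Fintype.card K) :
    ∃ c0 : ℕ → K, GenTorus chevE6 chevE8 emb68 K c0 := by
  classical
  obtain ⟨g, hg⟩ := IsCyclic.exists_generator (α := Kˣ)
  have hord : orderOf g = Fintype.card K - 1 := by
    rw [orderOf_eq_card_of_forall_mem_zpowers hg, Nat.card_eq_fintype_card, Fintype.card_units]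
  have h11 : 11 ≤ orderOf g := by omega
  obtain ⟨f1, f2⟩ := kergen_facts
  have h72 : chevE6.nroots = 72 := by decide
  have h240 : chevE8.nroots = 240 := by decide
  refine ⟨fun i => (g : K) ^ (kergen_m.getD i 0), ?_, ?_, ?_, ?_⟩
  · intro i _
    exact pow_ne_zero _ (Units.ne_zero g)
  · intro r hr
    rw [h72] at hr
    rw [kergen_chi, f1 r hr]
    simp
  · intro r' hr' hne
    rw [h240] at hr'
    rw [h72] at hne
    obtain ⟨ha, hb, hc, _⟩ := f2 r' hr'
    rw [kergen_chi]
    intro h
    have h' : g ^ (kergen_l chevE8 (fun i => kergen_m.getD i 0) r') = 1 := Units.ext (by simpa using h)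
    exact kergen_zpow_ne_one g h11 _ (hc hne).1 (by omega) (by omega) h'
  · intro r' s' hp hne hn
    have hr' : r' < 240 := h240 ▸ hp.1
    have hs' : s' < 240 := h240 ▸ hn.1
    rw [h72] at hne
    obtain ⟨ha, hb, hc, _⟩ := f2 r' hr'
    obtain ⟨ha', hb', _, hd'⟩ := f2 s' hs'
    have h1 := (hc hne).2 hp
    have h2 := hd' hn
    rw [kergen_chi, kergen_chi]
    intro h
    have h' : g ^ (kergen_l chevE8 (fun i => kergen_m.getD i 0) s') =
        g ^ (kergen_l chevE8 (fun i => kergen_m.getD i 0) r') := Units.ext h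
    have h'' : g ^ (kergen_l chevE8 (fun i => kergen_m.getD i 0) r' -
        kergen_l chevE8 (fun i => kergen_m.getD i 0) s') = 1 := by
      rw [zpow_sub, h', mul_inv_cancel]
    exact kergen_zpow_ne_one g h11 _ (by omega) (by omega) (by omega) h''

end Cfsg.Agent.E6Cov
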