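import Cfsg.Agent.Lib.E6Cov.KerDefs

/-!
# S2373 cover trick, piece KER-P (helper24's farm, row S2373; proved by helper27)

A word commuting with `s = T'(c0)` and fixing the roots of the small datum preserves positivity.
Proof: `OInv.nWordGL_comm_iff` (Helper28/OInvFIXN) turns `hcomm` into `∀ r' < D'.nroots, chi D' c0 (reflWord D' w r') = chi D' c0 r'`.
Let `r'` be positive.  If `r' = e r` then `reflWord D' w r' = r'` is positive.  Otherwise `reflWord D' w r' < D'.nroots`
(`reflWord_lt` / `hF'.rlt`), so it is positive or negative (`hF'.sign.pos_or_neg`); if negative, `hG.sep r' (w r')` contradicts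
the character equality.
Keep name/statement/namespace (if you NEED one more hypothesis that `ker_diag` in `Lib/E6Cov/Ker.lean` can supply, add it
and post on the board); aux names prefixed `kerp_`; no own sorry; scan; land; mark done.
-/

set_option autoImplicit false
set_option linter.unusedSectionVars false
set_option linter.unusedVariables false

namespace Cfsg.Agent.E6Cov

open Cfsg Cfsg.Lie Cfsg.Agent.Lead.Chev Cfsg.Agent.Lead.Tw

variable {D D' : ChevalleyDatum} {e : ℕ → ℕ} {einv : ℕ → Option ℕ} {K : Type*} [Field K] {c0 : ℕ → K}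

/-- PIECE KER-P: a word commuting with `s` and fixing the roots of the small datum preserves positivity -/
theorem ker_w_pos (h : SubOK D D' e) (hF' : ChevFacts D' K) (hG : GenTorus D D' e K c0)
    (s : GL D'.Idx K) (hs : (s : Matrix D'.Idx D'.Idx K) = Tmat D' c0)
    (w : List ℕ) (hw : ∀ i ∈ w, i < D'.rank)
    (hcomm : s * nWordGL D' hF'.xadd w = nWordGL D' hF'.xadd w * s)
    (hfix : ∀ r < D.nroots, reflWord D' w (e r) = e r) :
    ∀ r', D'.IsPosRoot r' → D'.IsPosRoot (reflWord D' w r') := by
  intro r' hr'
  have hchi := (Cfsg.Agent.Helper13.OInv.nWordGL_comm_iff hF' c0 hG.ne s hs w hw).1 hcomm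
  by_cases hex : ∃ r < D.nroots, e r = r'
  · obtain ⟨r, hr, rfl⟩ := hex
    rw [hfix r hr]
    exact hr'
  · have hex' : ∀ r < D.nroots, e r ≠ r' := fun r hr he => hex ⟨r, hr, he⟩
    have hlt : reflWord D' w r' < D'.nroots := reflWord_lt D' (etaOf D') hF'.facts w hw r' hr'.1
    rcases hF'.sign.pos_or_neg _ hlt with hp | hn
    · exact hp
    · exfalso
      exact hG.sep r' (reflWord D' w r') hr' hex' hn (hchi r' hr'.1)

end Cfsg.Agent.E6Cov
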