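import Cfsg.Agent.Lib.E6Cov.KerDefs

/-!
# KER: the partial inverse of `emb68` is compatible with the lists of positive roots
-/

set_option autoImplicit false

namespace Cfsg.Agent.E6Cov

open Cfsg Cfsg.Lie Cfsg.Agent.Lead.Chev

theorem kerpinv_fwd : ∀ r' < 240, ∀ r, einv68 r' = some r → (r < 72 ∧ emb68 r = r') := by
  intro r' hr' r hr
  have key : ∀ r' < 240, einv68 r' = none ∨ ∃ r < 72, einv68 r' = some r ∧ emb68 r = r' := by decide +kernel
  rcases key r' hr' with h0 | ⟨r0, hr0, h1, h2⟩
  · rw [h0] at hr
    exact absurd hr (by simp)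
  · rw [h1] at hr
    have : r0 = r := Option.some.inj hr
    subst this
    exact ⟨hr0, h2⟩

theorem kerpinv_none : ∀ r', 240 ≤ r' → einv68 r' = none := by
  intro r' hr'
  unfold einv68
  have hnot : r' ∉ embTab68.toList := by
    intro hmem
    have hall : ∀ x ∈ embTab68.toList, x < 240 := by decide +kernel
    exact absurd (hall r' hmem) (by omega)
  have h72 : embTab68.toList.length = 72 := by decide +kernel
  have : embTab68.toList.idxOf r' = 72 := by
    rw [← h72]
    exact List.idxOf_eq_length_iff.2 hnot
  simp only [this]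
  rfl

theorem kerpinv_bwd : ∀ r < 72, einv68 (emb68 r) = some r := by decide +kernel

theorem kerpinv_emb_lt : ∀ r < 72, emb68 r < 240 := by decide +kernel

theorem posInv68 : PosInv chevE6 chevE8 emb68 einv68 where
  spec := by
    intro r' r
    constructor
    · intro h1
      by_cases hr' : r' < 240
      · have := kerpinv_fwd r' hr' r h1
        exact ⟨this.1, this.2⟩
      · rw [kerpinv_none r' (by omega)] at h1
        exact absurd h1 (by simp)
    · rintro ⟨hr, rfl⟩
      exact kerpinv_bwd r hr
  pos := by decide +kernel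

end Cfsg.Agent.E6Cov
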