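import Cfsg.Agent.Lib.E6Cov.KerDefs

/-!
# S2373 cover trick, piece KER-U -- STUB (helper24's farm, row S2373)

`u ∈ U'` commuting with the generic torus element `s = T'(c0)` lies in `S~`.
Proof: `exists_prodL_of_mem` (Lead/ChevU1) / `fixu_posUnipotent_eq` + `subFrom` with `Ψ = fun _ => true` (Helper17/OInvFIXU)
write `u = prodL D' L t` over the positive roots; `OInv.fixu_comm_iff` gives `chi D' c0 r' * t r' = t r'` for all `r' ∈ L`;
for `r'` not of the form `e r` (`r < D.nroots`) `hG.ne_one` gives `t r' = 0`, so `xGL r' (t r') = 1` (`xGL_zero`); for `r' = e r`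
use `xGL_mem_Stilde` (Lib/E6Cov/SubGrp).  Then induction on the list (`prodL_cons`).
Keep name/statement/namespace (if you NEED one more hypothesis that `ker_diag` in `Lib/E6Cov/Ker.lean` can supply, add it
and post on the board); aux names prefixed `keru_`; no own sorry; scan; land; mark done.
-/

set_option autoImplicit false
set_option linter.unusedSectionVars false
set_option linter.unusedVariables false

namespace Cfsg.Agent.E6Cov

open Cfsg Cfsg.Lie Cfsg.Agent.Lead.Chev Cfsg.Agent.Lead.Tw

variable {D D' : ChevalleyDatum} {e : ℕ → ℕ} {einv : ℕ → Option ℕ} {K : Type*} [Field K] {c0 : ℕ → K}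

/-- PIECE KER-U: an element of `U'` commuting with `s` lies in `S~` -/
theorem ker_unip (h : SubOK D D' e) (hF' : ChevFacts D' K) (hG : GenTorus D D' e K c0)
    (s : GL D'.Idx K) (hs : (s : Matrix D'.Idx D'.Idx K) = Tmat D' c0)
    (u : GL D'.Idx K) (hu : u ∈ D'.posUnipotent K) (hus : s * u = u * s) : u ∈ Stilde D e K hF'.xadd := by
  have hadd : ∀ r < D'.nroots, ∀ t₁ t₂ : K, D'.x K r t₁ * D'.x K r t₂ = D'.x K r (t₁ + t₂) :=
    fun r _ => hF'.xadd.add' r
  have hzero : ∀ r < D'.nroots, D'.x K r (0 : K) = 1 := fun r _ => hF'.xadd.zero' r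
  rw [Cfsg.Agent.Helper13.OInv.fixu_posUnipotent_eq] at hu
  obtain ⟨t, ht⟩ := exists_prodL_of_mem_subGrp D' hadd hzero hF'.comm hF'.poscomm (fun _ => true)
    (Cfsg.Agent.Helper13.OInv.fixu_closed_true D') u hu
  have hcomm := (Cfsg.Agent.Helper13.OInv.fixu_comm_iff hF' c0 hG.ne s hs (fun _ => true) t u ht).mp hus
  -- each factor lies in `S~`
  have hfac : ∀ r ∈ subFrom D' (fun _ => true) 0, xGL D' hF'.xadd r (t r) ∈ Stilde D e K hF'.xadd := by
    intro r hr
    have hrlt : r < D'.nroots := ((mem_subFrom D' _ 0 r).1 hr).2.1.1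
    by_cases hex : ∃ r₀ < D.nroots, e r₀ = r
    · obtain ⟨r₀, hr₀, rfl⟩ := hex
      exact xGL_mem_Stilde h hF'.xadd r₀ hr₀ (t (e r₀))
    · push Not at hex
      have hne := hG.ne_one r hrlt hex
      have h1 := hcomm r hr
      have ht0 : t r = 0 := by
        by_contra h0
        apply hne
        exact mul_right_cancel₀ h0 (by rw [h1, one_mul])
      rw [ht0, xGL_zero]
      exact Subgroup.one_mem _
  -- the product in `GL`
  have hprod : ∀ L : List ℕ,
      (((L.map (fun r => xGL D' hF'.xadd r (t r))).prod : GL D'.Idx K) : Matrix D'.Idx D'.Idx K) =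
        prodL D' L t := by
    intro L
    induction L with
    | nil => simp [prodL_nil]
    | cons r L ih => rw [List.map_cons, List.prod_cons, Units.val_mul, ih, prodL_cons, xGL_val]
  have hu_eq : u = ((subFrom D' (fun _ => true) 0).map (fun r => xGL D' hF'.xadd r (t r))).prod := by
    apply Units.ext
    rw [ht, hprod]
  rw [hu_eq]
  apply Subgroup.list_prod_mem
  intro x hx
  obtain ⟨r, hr, rfl⟩ := List.mem_map.mp hx
  exact hfac r hr

end Cfsg.Agent.E6Cov
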