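import Cfsg.Agent.Lib.E6Cov.KerDefs

/-!
# S2373 cover trick, piece KER-W (helper24's farm, row S2373)

If the monomial element `hh * n_w` (`hh` diagonal) has the entry `1` at the root-vector coordinate `(e r, e r)` then `w` fixes
the root `e r`.  Proof: the `hcol` part of `ChevFacts.eq_one_of_mem_posUnipotent` (Lead/ChevMono.lean).
-/

set_option autoImplicit false
set_option linter.unusedSectionVars false
set_option linter.unusedVariables false

namespace Cfsg.Agent.E6Cov

open Cfsg Cfsg.Lie Cfsg.Agent.Lead.Chev Cfsg.Agent.Lead.Tw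

variable {D D' : ChevalleyDatum} {e : ℕ → ℕ} {einv : ℕ → Option ℕ} {K : Type*} [Field K] {c0 : ℕ → K}

/-- PIECE KER-W: if the monomial element `hh * n_w` has the entry `1` at `(e r, e r)` then `w` fixes `e r` -/
theorem ker_w_fix (h : SubOK D D' e) (hF' : ChevFacts D' K)
    (hh : GL D'.Idx K) (hhH : hh ∈ D'.diagonalSubgroup K) (w : List ℕ) (hw : ∀ i ∈ w, i < D'.rank)
    (r : ℕ) (hr : r < D.nroots)
    (h1 : ((hh * nWordGL D' hF'.xadd w : GL D'.Idx K) : Matrix D'.Idx D'.Idx K)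
      (Sum.inr ⟨e r, h.e_lt r hr⟩) (Sum.inr ⟨e r, h.e_lt r hr⟩) = 1) :
    reflWord D' w (e r) = e r := by
  have hr' := h.e_lt r hr
  obtain ⟨c, hc, hgc⟩ := exists_Tmat_of_mem D' hF'.hall hh hhH
  obtain ⟨ε, hε, h2⟩ := hF'.nWordGL_mulVec_inr w hw (e r) hr'
  have hlt := reflWord_lt D' (etaOf D') hF'.facts w hw (e r) hr'
  have h3 : ((hh * nWordGL D' hF'.xadd w : GL D'.Idx K) : Matrix D'.Idx D'.Idx K).mulVec
      (bvec D' (.inr (e r))) =
      (ε * chi D' c (reflWord D' w (e r))) •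
        (bvec D' (.inr (reflWord D' w (e r))) : D'.Idx → K) := by
    rw [Units.val_mul, ← Matrix.mulVec_mulVec, h2, Matrix.mulVec_smul, hgc,
      Tmat_mulVec_inr D' c _ hlt, smul_smul]
  have h4 := congrFun h3 (Sum.inr ⟨e r, hr'⟩)
  rw [bvec_inr_eq D' (e r) hr', Matrix.mulVec_single_one, Matrix.col_apply, h1,
    bvec_inr_eq D' _ hlt] at h4
  simp only [Pi.smul_apply, Pi.single_apply, smul_eq_mul, Sum.inr.injEq, Fin.mk.injEq] at h4
  by_cases hwr : e r = reflWord D' w (e r)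
  · exact hwr.symm
  · rw [if_neg hwr, mul_zero] at h4
    exact absurd h4 one_ne_zero

end Cfsg.Agent.E6Cov
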