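import Cfsg.Agent.Lib.E6Cov.SubTab

/-! chain check of `chevE6 ⊂ chevE8`, roots 36..47 -/

set_option autoImplicit false

namespace Cfsg.Agent.E6Cov

open Cfsg Cfsg.Lie

set_option maxRecDepth 100000 in
theorem chkC68_3 : (List.range' 36 12).all (subChkC chevE6 chevE8 emb68) = true := by decide +kernel

end Cfsg.Agent.E6Cov
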