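import Cfsg.Agent.Lib.E6Cov.SubChk68_0
import Cfsg.Agent.Lib.E6Cov.SubChk68_1
import Cfsg.Agent.Lib.E6Cov.SubChk68_2
import Cfsg.Agent.Lib.E6Cov.SubChk68_3
import Cfsg.Agent.Lib.E6Cov.SubChk68_4
import Cfsg.Agent.Lib.E6Cov.SubChk68_5

/-! `chevE6 ⊂ chevE8`: the tables are compatible -/

set_option autoImplicit false

namespace Cfsg.Agent.E6Cov

open Cfsg Cfsg.Lie

set_option maxRecDepth 100000 in
theorem chkA68 : subChkA chevE6 chevE8 emb68 = true := by decide +kernel

theorem subOK68 : SubOK chevE6 chevE8 emb68 := by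
  refine subOK_of_chk _ _ _ chkA68 ?_
  intro r hr
  have hr' : r < 72 := hr
  have h0 := chkC68_0
  have h1 := chkC68_1
  have h2 := chkC68_2
  have h3 := chkC68_3
  have h4 := chkC68_4
  have h5 := chkC68_5
  rw [List.all_eq_true] at h0 h1 h2 h3 h4 h5
  by_cases c0 : r < 12
  · exact h0 r (by rw [List.mem_range'_1]; omega)
  by_cases c1 : r < 24
  · exact h1 r (by rw [List.mem_range'_1]; omega)
  by_cases c2 : r < 36
  · exact h2 r (by rw [List.mem_range'_1]; omega)
  by_cases c3 : r < 48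
  · exact h3 r (by rw [List.mem_range'_1]; omega)
  by_cases c4 : r < 60
  · exact h4 r (by rw [List.mem_range'_1]; omega)
  · exact h5 r (by rw [List.mem_range'_1]; omega)

end Cfsg.Agent.E6Cov
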