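import Cfsg.Agent.Lib.E6Cov.KerA
import Cfsg.Agent.Lib.E6Cov.KerU
import Cfsg.Agent.Lib.E6Cov.KerW
import Cfsg.Agent.Lib.E6Cov.KerP
import Cfsg.Agent.Lib.E6Cov.KerB
import Cfsg.Agent.Lib.E6Cov.KerGen
import Cfsg.Agent.Lib.E6Cov.KerPInv
import Cfsg.Agent.Lib.E6Cov.SubChk68
import Cfsg.Agent.Lib.E6Cov.E6In8
import Cfsg.Agent.Lib.Lead.ChevCells

/-!
# KER: an element of `S~` with trivial block is diagonal (assembly), and the `E₆ ⊂ E₈` instance
-/

set_option autoImplicit false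
set_option linter.unusedSectionVars false
set_option linter.unusedVariables false

namespace Cfsg.Agent.E6Cov

open Cfsg Cfsg.Lie Cfsg.Agent.Lead.Chev Cfsg.Agent.Lead.Tw

variable {D D' : ChevalleyDatum} {e : ℕ → ℕ} {einv : ℕ → Option ℕ} {K : Type*} [Field K] {c0 : ℕ → K}

/-- **KER**: an element of `S~` with trivial block is diagonal -/
theorem ker_diag (h : SubOK D D' e) (hP : PosInv D D' e einv) (hF : ChevFacts D K) (hF' : ChevFacts D' K)
    (hS' : CorSize D') (hG : GenTorus D D' e K c0)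
    (k : GL D'.Idx K) (hk : k ∈ Stilde D e K hF'.xadd)
    (hres : res h (k : Matrix D'.Idx D'.Idx K) = 1) : k ∈ D'.diagonalSubgroup K := by
  obtain ⟨s, hs⟩ := ker_exists_s (D' := D') (K := K) hG.ne
  have hks := ker_comm h hF' hG s hs k hk
  -- the twist
  let T := Cfsg.Agent.Helper13.OInv.twistDiag hF' hF'.cartan_neg c0 hG.ne s hs
  have hfix : T.σ k = k := by
    show s * k * s⁻¹ = k
    rw [hks]; group
  obtain ⟨u₁, hu₁, n, hn, u, hu, e1, e2, e3, ek⟩ :=
    Twist.exists_fixed_canonical hF' T hS' k (Stilde_le_group h hF'.xadd hk) hfix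
  have hσ : ∀ g : GL D'.Idx K, T.σ g = g → s * g = g * s := by
    intro g hg
    have hg' : s * g * s⁻¹ = g := hg
    calc s * g = (s * g * s⁻¹) * s := by group
      _ = g * s := by rw [hg']
  have huU : u ∈ D'.posUnipotent K := hF'.negPartN_le_posUnipotent n hu
  have hu₁S := ker_unip h hF' hG s hs u₁ hu₁ (hσ u₁ e1)
  have huS := ker_unip h hF' hG s hs u huU (hσ u e3)
  -- `n ∈ S~`
  have hnS : n ∈ Stilde D e K hF'.xadd := by
    have : n = u₁⁻¹ * k * u⁻¹ := by rw [ek]; group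
    rw [this]
    exact mul_mem (mul_mem (inv_mem hu₁S) hk) (inv_mem huS)
  -- the diagonal entries of `n` at the embedded coordinates
  have hkst := Stilde_le_stab h hF'.xadd hk
  have hust := Stilde_le_stab h hF'.xadd (inv_mem huS)
  have hdiag : ∀ b : D.Idx, (n : Matrix D'.Idx D'.Idx K) (ce h b) (ce h b) = 1 := by
    intro b
    have e4 : (n : Matrix D'.Idx D'.Idx K) =
        ((u₁⁻¹ : GL D'.Idx K) : Matrix D'.Idx D'.Idx K) *
          ((k : Matrix D'.Idx D'.Idx K) * ((u⁻¹ : GL D'.Idx K) : Matrix D'.Idx D'.Idx K)) := by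
      have : n = u₁⁻¹ * (k * u⁻¹) := by rw [ek]; group
      rw [this, Units.val_mul, Units.val_mul]
    have e5 : ∀ a', ((k : Matrix D'.Idx D'.Idx K) * ((u⁻¹ : GL D'.Idx K) : Matrix D'.Idx D'.Idx K)) a' (ce h b) =
        ((u⁻¹ : GL D'.Idx K) : Matrix D'.Idx D'.Idx K) a' (ce h b) :=
      fun a' => ker_col h _ _ hkst.1 hres hust.1 a' b
    have e6 : (n : Matrix D'.Idx D'.Idx K) (ce h b) (ce h b) =
        ((u₁⁻¹ * u⁻¹ : GL D'.Idx K) : Matrix D'.Idx D'.Idx K) (ce h b) (ce h b) := by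
      rw [e4, Units.val_mul, Matrix.mul_apply, Matrix.mul_apply]
      apply Finset.sum_congr rfl
      intro a' _
      rw [e5 a']
    rw [e6, hF'.posUnipotent_entry _ (mul_mem (inv_mem hu₁) (inv_mem huU)) _ _ le_rfl, if_pos rfl]
  -- `n = hh * n_w`
  obtain ⟨hh, hhH, w, hw, en⟩ :=
    exists_word_of_mem_monomial D' hF'.xadd (etaOf D') hF'.nsimple hF'.simple_lt hF'.orbit n hn
  have hwfix : ∀ r < D.nroots, reflWord D' w (e r) = e r := by
    intro r hr
    apply ker_w_fix h hF' hh hhH w hw r hr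
    rw [← en]
    exact hdiag (Sum.inr ⟨r, hr⟩)
  -- `s` commutes with `n_w`
  have hsn := hσ n e2
  obtain ⟨ch, hch, hhc⟩ := exists_Tmat_of_mem D' hF'.hall hh hhH
  have hshh : s * hh = hh * s := by
    apply Units.ext
    rw [Units.val_mul, Units.val_mul, hs, hhc, Tmat_mul, Tmat_mul]
    apply Tmat_congr
    intro i _
    exact mul_comm _ _
  have hsw : s * nWordGL D' hF'.xadd w = nWordGL D' hF'.xadd w * s := by
    rw [en] at hsn
    have : s * nWordGL D' hF'.xadd w = hh⁻¹ * (s * (hh * nWordGL D' hF'.xadd w)) := by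
      rw [← mul_assoc s hh, hshh]; group
    rw [this, hsn]; group
  have hpos := ker_w_pos h hF' hG s hs w hw hsw hwfix
  have hnwH := Cfsg.Agent.Helper6.ChevL.nWordGL_mem_diagonal_of_pos hF' w hw hpos
  have hnH : n ∈ D'.diagonalSubgroup K := by rw [en]; exact mul_mem hhH hnwH
  -- the Borel case
  set u₂ := u₁ * (n * u * n⁻¹) with hu₂
  have hu₂U : u₂ ∈ D'.posUnipotent K :=
    mul_mem hu₁ (conj_mem_posUnipotent D' hF'.hall hF'.hconj n hnH u huU)
  have hu₂S : u₂ ∈ Stilde D e K hF'.xadd :=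
    mul_mem hu₁S (mul_mem (mul_mem hnS huS) (inv_mem hnS))
  have ek2 : k = u₂ * n := by rw [ek, hu₂]; group
  have hu₂s : s * u₂ = u₂ * s := by
    have h1 := hσ u₁ e1
    have h3 := hσ u e3
    have hn' : s * n⁻¹ = n⁻¹ * s := by
      calc s * n⁻¹ = n⁻¹ * (n * s) * n⁻¹ := by group
        _ = n⁻¹ * (s * n) * n⁻¹ := by rw [hsn]
        _ = n⁻¹ * s := by group
    calc s * u₂ = (s * u₁) * (n * u * n⁻¹) := by rw [hu₂]; group
      _ = u₁ * ((s * n) * u * n⁻¹) := by rw [h1]; group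
      _ = u₁ * (n * (s * u) * n⁻¹) := by rw [hsn]; group
      _ = u₁ * (n * u * (s * n⁻¹)) := by rw [h3]; group
      _ = u₂ * s := by rw [hn', hu₂]; group
  have hres2 : res h ((u₂ * n : GL D'.Idx K) : Matrix D'.Idx D'.Idx K) = 1 := by rw [← ek2]; exact hres
  have hu₂1 := ker_borel h hP hF hF' hG s hs u₂ n hu₂U hu₂S hu₂s hnH hres2
  rw [ek2, hu₂1, one_mul]
  exact hnH


/-- **KER** for `E₆ ⊂ E₈`: an element of `S~` with trivial block is diagonal -/
theorem ker68_diag {K : Type*} [Field K] [Fintype K] (hK : 12 ≤ Fintype.card K)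
    (hF' : ChevFacts chevE8 K) (k : GL chevE8.Idx K) (hk : k ∈ Stilde chevE6 emb68 K hF'.xadd)
    (hres : res subOK68 (k : Matrix chevE8.Idx chevE8.Idx K) = 1) : k ∈ chevE8.diagonalSubgroup K := by
  obtain ⟨c0, hG⟩ := gen_torus68 (K := K) hK
  have hF : ChevFacts chevE6 K := chevFacts_of_mem chevE6 (by simp)
  have hS' : CorSize chevE8 := corSize_of_mem chevE8 (by simp)
  exact ker_diag subOK68 posInv68 hF hF' hS' hG k hk hres

/-- **KER** for `E₆ ⊂ E₈`: an element of `S~` with trivial block is a torus element `T₈(c)` with `c 6 = c 7 = 1` -/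
theorem ker68 {K : Type*} [Field K] [Fintype K] (hK : 12 ≤ Fintype.card K)
    (hF' : ChevFacts chevE8 K) (k : GL chevE8.Idx K) (hk : k ∈ Stilde chevE6 emb68 K hF'.xadd)
    (hres : res subOK68 (k : Matrix chevE8.Idx chevE8.Idx K) = 1) :
    ∃ c : ℕ → K, (∀ i < 8, c i ≠ 0) ∧ (k : Matrix chevE8.Idx chevE8.Idx K) = Tmat chevE8 c ∧ c 6 = 1 ∧ c 7 = 1 := by
  have hd := ker68_diag hK hF' k hk hres
  obtain ⟨c, hc, hkc⟩ := exists_Tmat_of_mem chevE8 hF'.hall k hd
  obtain ⟨h6, h7⟩ := torus_params68 hF'.xadd k hk c hc hkc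
  exact ⟨c, hc, hkc, h6, h7⟩

end Cfsg.Agent.E6Cov
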