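import Cfsg.Agent.Lib.E6Cov.KerDefs

/-!
# KER: the easy pieces (torus element in `GL`, it centralises `S~`, column lemma)
-/

set_option autoImplicit false
set_option linter.unusedSectionVars false
set_option linter.unusedVariables false

namespace Cfsg.Agent.E6Cov

open Cfsg Cfsg.Lie Cfsg.Agent.Lead.Chev Cfsg.Agent.Lead.Tw

variable {D D' : ChevalleyDatum} {e : ℕ → ℕ} {K : Type*} [Field K] {c0 : ℕ → K}

/-- PIECE KER-S: the torus element as an element of `GL` -/
theorem ker_exists_s (hc : ∀ i < D'.rank, c0 i ≠ 0) :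
    ∃ s : GL D'.Idx K, (s : Matrix D'.Idx D'.Idx K) = Tmat D' c0 := by
  refine ⟨⟨Tmat D' c0, Tmat D' (fun i => (c0 i)⁻¹), Tmat_mul_inv D' c0 hc, ?_⟩, rfl⟩
  rw [Tmat_mul, ← Tmat_one]
  apply Tmat_congr
  intro i hi
  exact inv_mul_cancel₀ (hc i hi)

/-- PIECE KER-C: `s = T'(c0)` commutes with `S~` -/
theorem ker_comm (h : SubOK D D' e) (hF' : ChevFacts D' K) (hG : GenTorus D D' e K c0)
    (s : GL D'.Idx K) (hs : (s : Matrix D'.Idx D'.Idx K) = Tmat D' c0)
    (k : GL D'.Idx K) (hk : k ∈ Stilde D e K hF'.xadd) : s * k = k * s := by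
  have hcent : Stilde D e K hF'.xadd ≤ Subgroup.centralizer {s} := by
    unfold Stilde
    rw [Subgroup.closure_le]
    rintro g ⟨r, hr, t, rfl⟩
    rw [SetLike.mem_coe, Subgroup.mem_centralizer_iff]
    intro x hx
    rw [Set.mem_singleton_iff] at hx
    subst hx
    have h1 := hF'.Tmat_conj_xGL x c0 hG.ne hs (e r) (h.e_lt r hr) t
    rw [hG.one_img r hr, one_mul] at h1
    calc x * xGL D' hF'.xadd (e r) t = (x * xGL D' hF'.xadd (e r) t * x⁻¹) * x := by group
      _ = xGL D' hF'.xadd (e r) t * x := by rw [h1]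
  have := hcent hk
  rw [Subgroup.mem_centralizer_iff] at this
  exact this s rfl

/-- PIECE KER-COL: if `k` has trivial block and `M` preserves the embedded subspace, then `k * M` and `M` have
the same columns at the embedded coordinates -/
theorem ker_col (h : SubOK D D' e) (k M : Matrix D'.Idx D'.Idx K) (hk : Inv h k) (hk1 : res h k = 1)
    (hM : Inv h M) (a' : D'.Idx) (b : D.Idx) : (k * M) a' (ce h b) = M a' (ce h b) := by
  rw [Matrix.mul_apply]
  have hsum : ∑ j, k a' j * M j (ce h b) = ∑ c : D.Idx, k a' (ce h c) * M (ce h c) (ce h b) := by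
    symm
    apply Fintype.sum_of_injective (ce h) (ce_injective h)
    · intro c' hc'
      rw [hM c' hc' b, mul_zero]
    · intro c
      rfl
  rw [hsum]
  by_cases ha : a' ∈ Set.range (ce h)
  · obtain ⟨a, rfl⟩ := ha
    have : ∀ c : D.Idx, k (ce h a) (ce h c) = (1 : Matrix D.Idx D.Idx K) a c := by
      intro c
      rw [← hk1, res_apply]
    simp only [this, Matrix.one_apply]
    rw [Finset.sum_eq_single a]
    · rw [if_pos rfl, one_mul]
    · intro c _ hca
      rw [if_neg (Ne.symm hca), zero_mul]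
    · intro ha
      exact absurd (Finset.mem_univ a) ha
  · rw [hM a' ha b]
    apply Finset.sum_eq_zero
    intro c _
    rw [hk a' ha c, zero_mul]

end Cfsg.Agent.E6Cov
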