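import Cfsg.Agent.Lib.E6Cov.SubTorus
import Cfsg.Agent.Lib.Lead.ChevFactsAll
import Cfsg.Agent.Lib.Lead.ChevMono
import Cfsg.Agent.Lib.Lead.TwBase
import Cfsg.Agent.Lib.Helper28.OInvTW
import Cfsg.Agent.Lib.Helper28.OInvFIXN
import Cfsg.Agent.Lib.Helper17.OInvFIXU
import Cfsg.Agent.Lib.Helper6.ChevLTriv

/-!
# KER: definitions.  A "generic" torus element of the big group centralising `S~`
-/

set_option autoImplicit false

namespace Cfsg.Agent.E6Cov

open Cfsg Cfsg.Lie Cfsg.Agent.Lead.Chev Cfsg.Agent.Lead.Tw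

/-- a torus element `T'(c0)` of the big group: trivial character exactly on the roots of the small datum, and
separating the positive roots outside the small datum from all negative roots -/
structure GenTorus (D D' : ChevalleyDatum) (e : ℕ → ℕ) (K : Type*) [Field K] (c0 : ℕ → K) : Prop where
  ne : ∀ i < D'.rank, c0 i ≠ 0
  one_img : ∀ r < D.nroots, chi D' c0 (e r) = 1
  ne_one : ∀ r' < D'.nroots, (∀ r < D.nroots, e r ≠ r') → chi D' c0 r' ≠ 1
  sep : ∀ r' s', D'.IsPosRoot r' → (∀ r < D.nroots, e r ≠ r') → D'.IsNegRoot s' → chi D' c0 s' ≠ chi D' c0 r'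

/-- the partial inverse of the root embedding, compatible with the lists of positive roots -/
structure PosInv (D D' : ChevalleyDatum) (e : ℕ → ℕ) (einv : ℕ → Option ℕ) : Prop where
  spec : ∀ r' r, einv r' = some r ↔ (r < D.nroots ∧ e r = r')
  pos : D'.posRoots.filterMap einv = D.posRoots

/-- the partial inverse of `emb68` -/
def einv68 (r' : ℕ) : Option ℕ :=
  let i := embTab68.toList.idxOf r'
  if i < 72 then some i else none

end Cfsg.Agent.E6Cov
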