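import Cfsg.Agent.Lib.E6Cov.SubRes
import Cfsg.Agent.Lib.Lead.ChevWeyl

/-!
# The subgroup `S~` of the big Chevalley group generated by the root elements of the small datum, and the block
homomorphism onto the small Chevalley group
-/

set_option autoImplicit false
set_option linter.unusedSectionVars false
set_option linter.unusedVariables false

namespace Cfsg.Agent.E6Cov

open Cfsg Cfsg.Lie Cfsg.Agent.Lead.Chev

variable {D D' : ChevalleyDatum} {e : ℕ → ℕ} (h : SubOK D D' e) {F : Type*} [Field F]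

theorem x_e (r : ℕ) (hr : r < D.nroots) (t : F) :
    D'.x F (e r) t = D'.xMat F ⟨e r, h.e_lt r hr⟩ t := x_of_lt D' (e r) (h.e_lt r hr) t

/-- the block of `x_{e r}(t)` is `x_r(t)` -/
theorem res_x (r : ℕ) (hr : r < D.nroots) (t : F) : res h (D'.x F (e r) t) = D.x F r t := by
  rw [x_e h r hr, x_of_lt D r hr]
  ext a b
  rw [res_apply]
  exact xMat_ce h F ⟨r, hr⟩ t a b

theorem inv_x (r : ℕ) (hr : r < D.nroots) (t : F) : Inv h (D'.x F (e r) t) := by
  rw [x_e h r hr]
  intro a' ha' b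
  exact xMat_out h F ⟨r, hr⟩ t a' ha' b

variable (hX : XAdd D F) (hX' : XAdd D' F)
include h

theorem xGL_mem_stab (r : ℕ) (hr : r < D.nroots) (t : F) : xGL D' hX' (e r) t ∈ stab h F := by
  rw [mem_stab, xGL_inv]
  exact ⟨inv_x h r hr t, inv_x h r hr (-t)⟩

/-- the subgroup generated by the root elements `x_{e r}(t)` -/
def Stilde (D : ChevalleyDatum) (e : ℕ → ℕ) (F : Type*) [Field F] {D' : ChevalleyDatum} (hX' : XAdd D' F) :
    Subgroup (GL D'.Idx F) :=
  Subgroup.closure {g | ∃ r < D.nroots, ∃ t : F, g = xGL D' hX' (e r) t}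

theorem xGL_mem_Stilde (r : ℕ) (hr : r < D.nroots) (t : F) : xGL D' hX' (e r) t ∈ Stilde D e F hX' :=
  Subgroup.subset_closure ⟨r, hr, t, rfl⟩

theorem Stilde_le_stab : Stilde D e F hX' ≤ stab h F := by
  unfold Stilde
  rw [Subgroup.closure_le]
  rintro g ⟨r, hr, t, rfl⟩
  exact xGL_mem_stab h hX' r hr t

theorem Stilde_le_group : Stilde D e F hX' ≤ D'.group F := by
  unfold Stilde
  rw [Subgroup.closure_le]
  rintro g ⟨r, hr, t, rfl⟩
  exact xGL_mem_group D' hX' _ _

theorem resHom_xGL (r : ℕ) (hr : r < D.nroots) (t : F) :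
    resHom h F ⟨xGL D' hX' (e r) t, xGL_mem_stab h hX' r hr t⟩ = xGL D hX r t := by
  apply Units.ext
  rw [resHom_val, xGL_val, xGL_val]
  exact res_x h r hr t

/-- the block homomorphism restricted to `S~` -/
def resS : ↥(Stilde D e F hX') →* GL D.Idx F :=
  (resHom h F).comp (Subgroup.inclusion (Stilde_le_stab h hX'))

@[simp] theorem resS_val (g : ↥(Stilde D e F hX')) :
    ((resS h hX' g : GL D.Idx F) : Matrix D.Idx D.Idx F) = res h (g.1 : Matrix D'.Idx D'.Idx F) := rfl

theorem resS_xGL (r : ℕ) (hr : r < D.nroots) (t : F) :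
    resS h hX' ⟨xGL D' hX' (e r) t, xGL_mem_Stilde h hX' r hr t⟩ = xGL D hX r t := by
  apply Units.ext
  rw [resS_val, xGL_val, xGL_val]
  exact res_x h r hr t

include hX in
theorem resS_mem_group (g : ↥(Stilde D e F hX')) : resS h hX' g ∈ D.group F := by
  obtain ⟨g, hg⟩ := g
  have key : ∀ g (hg : g ∈ Stilde D e F hX'), resS h hX' ⟨g, hg⟩ ∈ D.group F := by
    intro g hg
    unfold Stilde at hg
    induction hg using Subgroup.closure_induction with
    | mem x hx =>
      obtain ⟨r, hr, t, rfl⟩ := hx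
      rw [resS_xGL h hX hX' r hr t]
      exact xGL_mem_group D hX r t
    | one =>
      have : (⟨1, Subgroup.one_mem _⟩ : ↥(Stilde D e F hX')) = 1 := rfl
      rw [this, map_one]
      exact one_mem _
    | mul x y hx hy ihx ihy =>
      have : (⟨x * y, Subgroup.mul_mem _ hx hy⟩ : ↥(Stilde D e F hX')) = ⟨x, hx⟩ * ⟨y, hy⟩ := rfl
      rw [this, map_mul]
      exact mul_mem ihx ihy
    | inv x hx ihx =>
      have : (⟨x⁻¹, Subgroup.inv_mem _ hx⟩ : ↥(Stilde D e F hX')) = (⟨x, hx⟩ : ↥(Stilde D e F hX'))⁻¹ := rfl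
      rw [this, map_inv]
      exact inv_mem ihx
  exact key g hg

include hX in
/-- `res` maps `S~` onto the small Chevalley group -/
theorem resS_surj (y : GL D.Idx F) (hy : y ∈ D.group F) : ∃ g : ↥(Stilde D e F hX'), resS h hX' g = y := by
  unfold ChevalleyDatum.group at hy
  induction hy using Subgroup.closure_induction with
  | mem x hx =>
    obtain ⟨r, t, hx⟩ := hx
    refine ⟨⟨xGL D' hX' (e r.val) t, xGL_mem_Stilde h hX' r.val r.2 t⟩, ?_⟩
    rw [resS_xGL h hX hX' r.val r.2 t]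
    apply Units.ext
    rw [hx, xGL_val, x_of_lt D r.val r.2]
  | one => exact ⟨1, map_one _⟩
  | mul x y _ _ ihx ihy =>
    obtain ⟨a, ha⟩ := ihx
    obtain ⟨b, hb⟩ := ihy
    exact ⟨a * b, by rw [map_mul, ha, hb]⟩
  | inv x _ ihx =>
    obtain ⟨a, ha⟩ := ihx
    exact ⟨a⁻¹, by rw [map_inv, ha]⟩

omit h in
/-- words in root elements -/
def eWord (e : ℕ → ℕ) (w : List (ℕ × F)) : List (ℕ × F) := w.map fun p => (e p.1, p.2)

theorem wordGL_eWord_mem (w : List (ℕ × F)) (hw : ∀ p ∈ w, p.1 < D.nroots) :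
    wordGL D' hX' (eWord e w) ∈ Stilde D e F hX' := by
  induction w with
  | nil => exact one_mem _
  | cons p w ih =>
    have : eWord e (p :: w) = (e p.1, p.2) :: eWord e w := rfl
    rw [this, wordGL_cons]
    exact mul_mem (xGL_mem_Stilde h hX' p.1 (hw p List.mem_cons_self) p.2)
      (ih fun q hq => hw q (List.mem_cons_of_mem _ hq))

theorem resS_wordGL (w : List (ℕ × F)) (hw : ∀ p ∈ w, p.1 < D.nroots) :
    resS h hX' ⟨wordGL D' hX' (eWord e w), wordGL_eWord_mem h hX' w hw⟩ = wordGL D hX w := by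
  induction w with
  | nil =>
    exact map_one _
  | cons p w ih =>
    have hw' : ∀ q ∈ w, q.1 < D.nroots := fun q hq => hw q (List.mem_cons_of_mem _ hq)
    have e1 : (⟨wordGL D' hX' (eWord e (p :: w)), wordGL_eWord_mem h hX' (p :: w) hw⟩ : ↥(Stilde D e F hX')) =
        ⟨xGL D' hX' (e p.1) p.2, xGL_mem_Stilde h hX' p.1 (hw p List.mem_cons_self) p.2⟩ *
          ⟨wordGL D' hX' (eWord e w), wordGL_eWord_mem h hX' w hw'⟩ := by
      apply Subtype.ext
      have : eWord e (p :: w) = (e p.1, p.2) :: eWord e w := rfl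
      rw [Subgroup.coe_mul]
      show wordGL D' hX' (eWord e (p :: w)) = _
      rw [this, wordGL_cons]
    rw [e1, map_mul, ih hw', resS_xGL h hX hX' p.1 (hw p List.mem_cons_self) p.2, wordGL_cons]

end Cfsg.Agent.E6Cov
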