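import Cfsg.Agent.Lib.E6Cov.SubX

/-!
# The block homomorphism `res` on the matrices that preserve the embedded coordinate subspace
-/

set_option autoImplicit false

namespace Cfsg.Agent.E6Cov

open Cfsg Cfsg.Lie

variable {D D' : ChevalleyDatum} {e : ℕ → ℕ} (h : SubOK D D' e) {F : Type*} [Field F]

/-- the block of a matrix on the embedded coordinates -/
def res (M : Matrix D'.Idx D'.Idx F) : Matrix D.Idx D.Idx F := M.submatrix (ce h) (ce h)

@[simp] theorem res_apply (M : Matrix D'.Idx D'.Idx F) (a b : D.Idx) : res h M a b = M (ce h a) (ce h b) := rfl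

/-- `M` maps the embedded coordinate subspace into itself -/
def Inv (M : Matrix D'.Idx D'.Idx F) : Prop :=
  ∀ a', a' ∉ Set.range (ce h) → ∀ b, M a' (ce h b) = 0

theorem res_mul (M N : Matrix D'.Idx D'.Idx F) (hN : Inv h N) : res h (M * N) = res h M * res h N := by
  ext a b
  rw [res_apply, Matrix.mul_apply, Matrix.mul_apply]
  symm
  apply Fintype.sum_of_injective (ce h) (ce_injective h)
  · intro c' hc'
    rw [hN c' hc' b, mul_zero]
  · intro c
    rfl

theorem Inv.mul {M N : Matrix D'.Idx D'.Idx F} (hM : Inv h M) (hN : Inv h N) : Inv h (M * N) := by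
  intro a' ha' b
  rw [Matrix.mul_apply]
  apply Finset.sum_eq_zero
  intro c' _
  by_cases hc' : c' ∈ Set.range (ce h)
  · obtain ⟨c, rfl⟩ := hc'
    rw [hM a' ha' c, zero_mul]
  · rw [hN c' hc' b, mul_zero]

theorem Inv.one : Inv h (1 : Matrix D'.Idx D'.Idx F) := by
  intro a' ha' b
  rw [Matrix.one_apply, if_neg]
  rintro rfl
  exact ha' ⟨b, rfl⟩

theorem res_one : res h (1 : Matrix D'.Idx D'.Idx F) = 1 := by
  ext a b
  rw [res_apply, Matrix.one_apply, Matrix.one_apply]
  by_cases hab : a = b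
  · rw [if_pos hab, if_pos (by rw [hab])]
  · rw [if_neg hab, if_neg (fun h1 => hab (ce_injective h h1))]

/-- the subgroup of `GL` preserving the embedded coordinate subspace -/
def stab (F : Type*) [Field F] : Subgroup (GL D'.Idx F) where
  carrier := {g | Inv h (g : Matrix D'.Idx D'.Idx F) ∧ Inv h ((g⁻¹ : GL D'.Idx F) : Matrix D'.Idx D'.Idx F)}
  mul_mem' := by
    rintro a b ⟨ha1, ha2⟩ ⟨hb1, hb2⟩
    refine ⟨?_, ?_⟩
    · rw [Units.val_mul]
      exact ha1.mul h hb1
    · rw [mul_inv_rev, Units.val_mul]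
      exact hb2.mul h ha2
  one_mem' := by
    refine ⟨?_, ?_⟩
    · rw [Units.val_one]
      exact Inv.one h
    · rw [inv_one, Units.val_one]
      exact Inv.one h
  inv_mem' := by
    rintro a ⟨ha1, ha2⟩
    exact ⟨ha2, by rw [inv_inv]; exact ha1⟩

theorem mem_stab (g : GL D'.Idx F) :
    g ∈ stab h F ↔ Inv h (g : Matrix D'.Idx D'.Idx F) ∧ Inv h ((g⁻¹ : GL D'.Idx F) : Matrix D'.Idx D'.Idx F) :=
  Iff.rfl

/-- the block of an element of `stab` -/
def resGL (g : ↥(stab h F)) : GL D.Idx F :=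
  ⟨res h (g.1 : Matrix D'.Idx D'.Idx F), res h ((g.1⁻¹ : GL D'.Idx F) : Matrix D'.Idx D'.Idx F), by
    rw [← res_mul h _ _ g.2.2, ← Units.val_mul, mul_inv_cancel, Units.val_one, res_one], by
    rw [← res_mul h _ _ g.2.1, ← Units.val_mul, inv_mul_cancel, Units.val_one, res_one]⟩

@[simp] theorem resGL_val (g : ↥(stab h F)) :
    ((resGL h g : GL D.Idx F) : Matrix D.Idx D.Idx F) = res h (g.1 : Matrix D'.Idx D'.Idx F) := rfl

/-- the block homomorphism -/
def resHom (F : Type*) [Field F] : ↥(stab h F) →* GL D.Idx F where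
  toFun := resGL h
  map_one' := by
    apply Units.ext
    rw [resGL_val, Units.val_one]
    exact res_one h
  map_mul' := by
    intro a b
    apply Units.ext
    rw [resGL_val, Units.val_mul, resGL_val, resGL_val]
    exact res_mul h _ _ b.2.1

@[simp] theorem resHom_val (g : ↥(stab h F)) :
    ((resHom h F g : GL D.Idx F) : Matrix D.Idx D.Idx F) = res h (g.1 : Matrix D'.Idx D'.Idx F) := rfl

end Cfsg.Agent.E6Cov
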