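import Mathlib
import Cfsg.Prelude.Def_ChevStructure
import Cfsg.Prelude.Def_LieChev

/-!
# E₆ and E₇ inside E₈: the tables of `chevE6`, `chevE7` are the restriction of the tables of `chevE8`

`SubOK D D' e`: the root-index map `e` embeds the datum `D` into the datum `D'` compatibly with all the tables
entering `xMat`.  Checked by evaluation for `chevE6 ⊂ chevE8` and `chevE7 ⊂ chevE8`.
-/

set_option autoImplicit false

namespace Cfsg.Agent.E6Cov

open Cfsg Cfsg.Lie

/-- the embedding of the root indices of `E₆` into those of `E₈` -/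
def embTab68 : Array ℕ := #[35, 45, 51, 54, 55, 61, 64, 65, 68, 69, 70, 73, 74, 75, 76, 77, 83, 86, 87, 90, 91, 92, 95, 96, 97, 98, 101, 102, 103, 104, 107, 108, 109, 112, 113, 116, 123, 126, 127, 130, 131, 132, 135, 136, 137, 138, 141, 142, 143, 144, 147, 148, 149, 152, 153, 156, 162, 163, 164, 165, 166, 169, 170, 171, 174, 175, 178, 184, 185, 188, 194, 204]

/-- the embedding of the root indices of `E₇` into those of `E₈` -/
def embTab78 : Array ℕ := #[13, 20, 25, 29, 32, 34, 35, 39, 42, 44, 45, 48, 50, 51, 53, 54, 55, 58, 60, 61, 63, 64, 65, 67, 68, 69, 70, 72, 73, 74, 75, 76, 77, 80, 82, 83, 85, 86, 87, 89, 90, 91, 92, 94, 95, 96, 97, 98, 100, 101, 102, 103, 104, 106, 107, 108, 109, 111, 112, 113, 115, 116, 118, 121, 123, 124, 126, 127, 128, 130, 131, 132, 133, 135, 136, 137, 138, 139, 141, 142, 143, 144, 145, 147, 148, 149, 150, 152, 153, 154, 156, 157, 159, 162, 163, 164, 165, 166, 167, 169, 170, 171, 172, 174, 175, 176, 178, 179, 181, 184, 185, 186, 188, 189, 191, 194, 195, 197, 200,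 204, 205, 207, 210, 214, 219, 226]

def emb68 (r : ℕ) : ℕ := embTab68.getD r 0
def emb78 (r : ℕ) : ℕ := embTab78.getD r 0

/-- the compatibility of the tables -/
structure SubOK (D D' : ChevalleyDatum) (e : ℕ → ℕ) : Prop where
  rank_le : D.rank ≤ D'.rank
  e_lt : ∀ r < D.nroots, e r < D'.nroots
  e_inj : ∀ r < D.nroots, ∀ s < D.nroots, e r = e s → r = s
  cartan : ∀ i < D.rank, ∀ r < D.nroots,
    (D'.cartanSR.getD i #[]).getD (e r) 0 = (D.cartanSR.getD i #[]).getD r 0
  coroot : ∀ r < D.nroots, ∀ i < D.rank,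
    (D'.coroot.getD (e r) #[]).getD i 0 = (D.coroot.getD r #[]).getD i 0
  coroot0 : ∀ r < D.nroots, ∀ i < D'.rank, D.rank ≤ i → (D'.coroot.getD (e r) #[]).getD i 0 = 0
  neg_lt : ∀ r < D.nroots, D.negIdx.getD r 0 < D.nroots
  neg : ∀ r < D.nroots, D'.negIdx.getD (e r) 0 = e (D.negIdx.getD r 0)
  chain : ∀ r < D.nroots, ∀ s < D.nroots, ∀ u < D.nroots,
    D'.chainCoeff (e r) (e s) (e u) = D.chainCoeff r s u
  chain0 : ∀ r < D.nroots, ∀ s < D.nroots, ∀ u' < D'.nroots, (∀ u < D.nroots, e u ≠ u') →
    D'.chainCoeff (e r) (e s) u' = []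

/-- the part of the check that does not involve the chains -/
def subChkA (D D' : ChevalleyDatum) (e : ℕ → ℕ) : Bool :=
  decide (D.rank ≤ D'.rank) &&
  (List.range D.nroots).all fun r =>
    decide (e r < D'.nroots) &&
    ((List.range D.nroots).all fun s => decide (e r ≠ e s) || decide (r = s)) &&
    ((List.range D.rank).all fun i =>
      decide ((D'.cartanSR.getD i #[]).getD (e r) 0 = (D.cartanSR.getD i #[]).getD r 0) &&
      decide ((D'.coroot.getD (e r) #[]).getD i 0 = (D.coroot.getD r #[]).getD i 0)) &&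
    ((List.range D'.rank).all fun i =>
      decide (i < D.rank) || decide ((D'.coroot.getD (e r) #[]).getD i 0 = 0)) &&
    decide (D.negIdx.getD r 0 < D.nroots) &&
    decide (D'.negIdx.getD (e r) 0 = e (D.negIdx.getD r 0))

/-- the chain part of the check, for the root `r` -/
def subChkC (D D' : ChevalleyDatum) (e : ℕ → ℕ) (r : ℕ) : Bool :=
  (List.range D.nroots).all fun s =>
    ((List.range D.nroots).all fun u =>
      decide (D'.chainCoeff (e r) (e s) (e u) = D.chainCoeff r s u)) &&
    ((List.range D'.nroots).all fun u' =>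
      ((List.range D.nroots).any fun u => decide (e u = u')) ||
        decide (D'.chainCoeff (e r) (e s) u' = []))

theorem subOK_of_chk (D D' : ChevalleyDatum) (e : ℕ → ℕ) (hA : subChkA D D' e = true)
    (hC : ∀ r < D.nroots, subChkC D D' e r = true) : SubOK D D' e := by
  unfold subChkA at hA
  rw [Bool.and_eq_true, List.all_eq_true] at hA
  obtain ⟨hrk, hA⟩ := hA
  have hA' : ∀ r < D.nroots, _ := fun r hr => hA r (List.mem_range.2 hr)
  simp only [Bool.and_eq_true, List.all_eq_true, List.mem_range, Bool.or_eq_true, decide_eq_true_eq] at hA'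
  have hC' : ∀ r < D.nroots, _ := fun r hr => by
    have := hC r hr
    unfold subChkC at this
    simpa only [Bool.and_eq_true, List.all_eq_true, List.mem_range, Bool.or_eq_true, decide_eq_true_eq,
      List.any_eq_true] using this
  refine ⟨of_decide_eq_true hrk, fun r hr => (hA' r hr).1.1.1.1.1, ?_, ?_, ?_, ?_,
    fun r hr => (hA' r hr).1.2, fun r hr => (hA' r hr).2, ?_, ?_⟩
  · intro r hr s hs h
    rcases (hA' r hr).1.1.1.1.2 s hs with h1 | h1
    · exact absurd h h1
    · exact h1
  · intro i hi r hr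
    exact ((hA' r hr).1.1.1.2 i hi).1
  · intro r hr i hi
    exact ((hA' r hr).1.1.1.2 i hi).2
  · intro r hr i hi hle
    rcases (hA' r hr).1.1.2 i hi with h1 | h1
    · exact absurd h1 (not_lt.2 hle)
    · exact h1
  · intro r hr s hs u hu
    exact ((hC' r hr) s hs).1 u hu
  · intro r hr s hs u' hu' hne
    rcases ((hC' r hr) s hs).2 u' hu' with ⟨u, hu, h1⟩ | h1
    · exact absurd h1 (hne u hu)
    · exact h1

end Cfsg.Agent.E6Cov
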