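import Cfsg.Agent.Lib.E6Cov.SubTab

/-!
# The root elements of the small datum are the blocks of the root elements of the big datum
-/

set_option autoImplicit false

namespace Cfsg.Agent.E6Cov

open Cfsg Cfsg.Lie

variable {D D' : ChevalleyDatum} {e : ℕ → ℕ}

/-- the embedding of the coordinates -/
def ce (h : SubOK D D' e) : D.Idx → D'.Idx :=
  Sum.elim (fun i => Sum.inl ⟨i.val, lt_of_lt_of_le i.2 h.rank_le⟩)
    (fun r => Sum.inr ⟨e r.val, h.e_lt r.val r.2⟩)

@[simp] theorem ce_inl (h : SubOK D D' e) (i : Fin D.rank) :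
    ce h (Sum.inl i) = Sum.inl ⟨i.val, lt_of_lt_of_le i.2 h.rank_le⟩ := rfl

@[simp] theorem ce_inr (h : SubOK D D' e) (r : Fin D.nroots) :
    ce h (Sum.inr r) = Sum.inr ⟨e r.val, h.e_lt r.val r.2⟩ := rfl

theorem ce_injective (h : SubOK D D' e) : Function.Injective (ce h) := by
  intro a b hab
  rcases a with i | r <;> rcases b with j | s
  · simp only [ce_inl, Sum.inl.injEq, Fin.mk.injEq] at hab
    exact congrArg Sum.inl (Fin.ext hab)
  · simp at hab
  · simp at hab
  · simp only [ce_inr, Sum.inr.injEq, Fin.mk.injEq] at hab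
    exact congrArg Sum.inr (Fin.ext (h.e_inj r.val r.2 s.val s.2 hab))

theorem fin_e_eq_iff (h : SubOK D D' e) (u r : Fin D.nroots) :
    ((⟨e u.val, h.e_lt u.val u.2⟩ : Fin D'.nroots) = ⟨e r.val, h.e_lt r.val r.2⟩) ↔ u = r := by
  constructor
  · intro h1
    exact Fin.ext (h.e_inj u.val u.2 r.val r.2 (Fin.mk.inj_iff.1 h1))
  · rintro rfl
    rfl

theorem e_eq_neg_iff (h : SubOK D D' e) (s r : Fin D.nroots) :
    e s.val = D'.negIdx.getD (e r.val) 0 ↔ s.val = D.negIdx.getD r.val 0 := by
  rw [h.neg r.val r.2]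
  constructor
  · intro h1
    exact h.e_inj s.val s.2 _ (h.neg_lt r.val r.2) h1
  · intro h1
    rw [h1]

/-- the block of `x_{e r}(t)` on the embedded coordinates is `x_r(t)` -/
theorem xMat_ce (h : SubOK D D' e) (F : Type*) [Field F] (r : Fin D.nroots) (t : F) (a b : D.Idx) :
    D'.xMat F ⟨e r.val, h.e_lt r.val r.2⟩ t (ce h a) (ce h b) = D.xMat F r t a b := by
  rcases b with i | s
  · rcases a with i' | u
    · simp only [ChevalleyDatum.xMat, Matrix.of_apply, ce_inl]
      by_cases hii : i' = i
      · rw [if_pos hii, if_pos (by rw [hii])]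
      · rw [if_neg hii, if_neg (fun h1 => hii (Fin.ext (Fin.mk.inj_iff.1 h1)))]
    · simp only [ChevalleyDatum.xMat, Matrix.of_apply, ce_inl, ce_inr]
      by_cases hur : u = r
      · rw [if_pos hur, if_pos ((fin_e_eq_iff h u r).2 hur), h.cartan i.val i.2 r.val r.2]
      · rw [if_neg hur, if_neg (fun h1 => hur ((fin_e_eq_iff h u r).1 h1))]
  · by_cases hsr : s = r
    · have hsr' : (⟨e s.val, h.e_lt s.val s.2⟩ : Fin D'.nroots) = ⟨e r.val, h.e_lt r.val r.2⟩ :=
        (fin_e_eq_iff h s r).2 hsr
      rcases a with i' | u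
      · simp only [ChevalleyDatum.xMat, Matrix.of_apply, ce_inl, ce_inr, if_pos hsr, if_pos hsr']
      · simp only [ChevalleyDatum.xMat, Matrix.of_apply, ce_inr, if_pos hsr, if_pos hsr']
        by_cases hur : u = r
        · rw [if_pos hur, if_pos ((fin_e_eq_iff h u r).2 hur)]
        · rw [if_neg hur, if_neg (fun h1 => hur ((fin_e_eq_iff h u r).1 h1))]
    · have hsr' : ¬ (⟨e s.val, h.e_lt s.val s.2⟩ : Fin D'.nroots) = ⟨e r.val, h.e_lt r.val r.2⟩ :=
        fun h1 => hsr ((fin_e_eq_iff h s r).1 h1)
      by_cases hsn : s.val = D.negIdx.getD r.val 0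
      · have hsn' : e s.val = D'.negIdx.getD (e r.val) 0 := (e_eq_neg_iff h s r).2 hsn
        rcases a with i' | u
        · simp only [ChevalleyDatum.xMat, Matrix.of_apply, ce_inl, ce_inr, if_neg hsr, if_neg hsr',
            if_pos hsn, if_pos hsn', h.coroot r.val r.2 i'.val i'.2]
        · simp only [ChevalleyDatum.xMat, Matrix.of_apply, ce_inr, if_neg hsr, if_neg hsr',
            if_pos hsn, if_pos hsn']
          by_cases hus : u = s
          · rw [if_pos hus, if_pos ((fin_e_eq_iff h u s).2 hus)]
          · rw [if_neg hus, if_neg (fun h1 => hus ((fin_e_eq_iff h u s).1 h1))]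
            by_cases hur : u = r
            · rw [if_pos hur, if_pos ((fin_e_eq_iff h u r).2 hur)]
            · rw [if_neg hur, if_neg (fun h1 => hur ((fin_e_eq_iff h u r).1 h1))]
      · have hsn' : ¬ e s.val = D'.negIdx.getD (e r.val) 0 := fun h1 => hsn ((e_eq_neg_iff h s r).1 h1)
        rcases a with i' | u
        · simp only [ChevalleyDatum.xMat, Matrix.of_apply, ce_inl, ce_inr, if_neg hsr, if_neg hsr',
            if_neg hsn, if_neg hsn']
        · simp only [ChevalleyDatum.xMat, Matrix.of_apply, ce_inr, if_neg hsr, if_neg hsr',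
            if_neg hsn, if_neg hsn']
          rw [h.chain r.val r.2 s.val s.2 u.val u.2]
          congr 1
          by_cases hus : u = s
          · rw [if_pos hus, if_pos ((fin_e_eq_iff h u s).2 hus)]
          · rw [if_neg hus, if_neg (fun h1 => hus ((fin_e_eq_iff h u s).1 h1))]

/-- the coordinates outside the image -/
theorem not_range_inl (h : SubOK D D' e) (i : Fin D'.rank) (hi : Sum.inl i ∉ Set.range (ce h)) :
    D.rank ≤ i.val := by
  by_contra hlt
  rw [not_le] at hlt
  exact hi ⟨Sum.inl ⟨i.val, hlt⟩, rfl⟩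

theorem not_range_inr (h : SubOK D D' e) (u' : Fin D'.nroots) (hu : Sum.inr u' ∉ Set.range (ce h)) :
    ∀ u < D.nroots, e u ≠ u'.val := by
  intro u hu1 he
  exact hu ⟨Sum.inr ⟨u, hu1⟩, by simp only [ce_inr]; exact congrArg Sum.inr (Fin.ext he)⟩

/-- the embedded coordinate subspace is stable under `x_{e r}(t)` -/
theorem xMat_out (h : SubOK D D' e) (F : Type*) [Field F] (r : Fin D.nroots) (t : F) (a' : D'.Idx)
    (ha : a' ∉ Set.range (ce h)) (b : D.Idx) :
    D'.xMat F ⟨e r.val, h.e_lt r.val r.2⟩ t a' (ce h b) = 0 := by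
  rcases b with i | s
  · rcases a' with i' | u'
    · have hi' := not_range_inl h i' ha
      simp only [ChevalleyDatum.xMat, Matrix.of_apply, ce_inl]
      rw [if_neg]
      intro h1
      have : i'.val = i.val := congrArg Fin.val h1
      have := i.2
      omega
    · have hu' := not_range_inr h u' ha
      simp only [ChevalleyDatum.xMat, Matrix.of_apply, ce_inl]
      rw [if_neg]
      intro h1
      exact hu' r.val r.2 (congrArg Fin.val h1).symm
  · by_cases hsr : s = r
    · have hsr' : (⟨e s.val, h.e_lt s.val s.2⟩ : Fin D'.nroots) = ⟨e r.val, h.e_lt r.val r.2⟩ :=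
        (fin_e_eq_iff h s r).2 hsr
      rcases a' with i' | u'
      · simp only [ChevalleyDatum.xMat, Matrix.of_apply, ce_inr, if_pos hsr']
      · have hu' := not_range_inr h u' ha
        simp only [ChevalleyDatum.xMat, Matrix.of_apply, ce_inr, if_pos hsr']
        rw [if_neg]
        intro h1
        exact hu' r.val r.2 (congrArg Fin.val h1).symm
    · have hsr' : ¬ (⟨e s.val, h.e_lt s.val s.2⟩ : Fin D'.nroots) = ⟨e r.val, h.e_lt r.val r.2⟩ :=
        fun h1 => hsr ((fin_e_eq_iff h s r).1 h1)
      by_cases hsn : s.val = D.negIdx.getD r.val 0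
      · have hsn' : e s.val = D'.negIdx.getD (e r.val) 0 := (e_eq_neg_iff h s r).2 hsn
        rcases a' with i' | u'
        · have hi' := not_range_inl h i' ha
          simp only [ChevalleyDatum.xMat, Matrix.of_apply, ce_inr, if_neg hsr', if_pos hsn']
          rw [h.coroot0 r.val r.2 i'.val i'.2 hi']
          simp
        · have hu' := not_range_inr h u' ha
          simp only [ChevalleyDatum.xMat, Matrix.of_apply, ce_inr, if_neg hsr', if_pos hsn']
          rw [if_neg, if_neg]
          · intro h1
            exact hu' r.val r.2 (congrArg Fin.val h1).symm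
          · intro h1
            exact hu' s.val s.2 (congrArg Fin.val h1).symm
      · have hsn' : ¬ e s.val = D'.negIdx.getD (e r.val) 0 := fun h1 => hsn ((e_eq_neg_iff h s r).1 h1)
        rcases a' with i' | u'
        · simp only [ChevalleyDatum.xMat, Matrix.of_apply, ce_inr, if_neg hsr', if_neg hsn']
        · have hu' := not_range_inr h u' ha
          simp only [ChevalleyDatum.xMat, Matrix.of_apply, ce_inr, if_neg hsr', if_neg hsn']
          rw [h.chain0 r.val r.2 s.val s.2 u'.val u'.2 hu', if_neg]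
          · simp
          · intro h1
            exact hu' s.val s.2 (congrArg Fin.val h1).symm

end Cfsg.Agent.E6Cov
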