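import Cfsg.Agent.Lib.E6Cov.SubTab2
import Cfsg.Agent.Lib.Lead.ChevHCard
import Cfsg.Agent.Lib.Lead.ChevWeyl
import Cfsg.Agent.Lib.Lead.ZpowMat
import Cfsg.Agent.Lib.Lead.ChevWsTab

/-!
# The action of the Weyl group words on the torus parameters: definitions

`n_w⁻¹ T(c) n_w = T(zpv (wMat D w) c)`, where `zpv M c j = ∏ k, c k ^ M j k` (Lead/ZpowMat).
-/

set_option autoImplicit false

namespace Cfsg.Agent.E6Cov

open Cfsg Cfsg.Lie Cfsg.Agent.Lead.Chev

/-- table fact: the Cartan integers of a reflected root -/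
def CartanRefl (D : ChevalleyDatum) : Prop :=
  ∀ i < D.rank, ∀ r < D.nroots, ∀ j < D.rank,
    D.cartan j (D.reflectRoot i r) = D.cartan j r - D.cartan i r * D.cartan j (D.simple i)

/-- the Boolean check of `CartanRefl` for one fundamental reflection, read off a packed table -/
def cartanReflChk (D : ChevalleyDatum) (Ws : List ℕ) (i : ℕ) : Bool :=
  (List.range D.nroots).all fun r => (List.range D.rank).all fun j =>
    decide (D.cartan j (unpack8 (Ws.getD i 0) r) = D.cartan j r - D.cartan i r * D.cartan j (D.simple i))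

theorem cartanRefl_of_chk (D : ChevalleyDatum) (Ws : List ℕ)
    (hWs : ∀ i < D.rank, ∀ v < D.nroots, unpack8 (Ws.getD i 0) v = D.reflectRoot i v)
    (h : ∀ i < D.rank, cartanReflChk D Ws i = true) : CartanRefl D := by
  intro i hi r hr j hj
  have h0 := h i hi
  unfold cartanReflChk at h0
  rw [List.all_eq_true] at h0
  have h2 := h0 r (List.mem_range.2 hr)
  rw [List.all_eq_true] at h2
  have h3 := h2 j (List.mem_range.2 hj)
  rw [← hWs i hi r hr]
  exact of_decide_eq_true h3

theorem cartanRefl_E8_0 : cartanReflChk chevE8 commWs_E8 0 = true := by decide +kernel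
theorem cartanRefl_E8_1 : cartanReflChk chevE8 commWs_E8 1 = true := by decide +kernel
theorem cartanRefl_E8_2 : cartanReflChk chevE8 commWs_E8 2 = true := by decide +kernel
theorem cartanRefl_E8_3 : cartanReflChk chevE8 commWs_E8 3 = true := by decide +kernel
theorem cartanRefl_E8_4 : cartanReflChk chevE8 commWs_E8 4 = true := by decide +kernel
theorem cartanRefl_E8_5 : cartanReflChk chevE8 commWs_E8 5 = true := by decide +kernel
theorem cartanRefl_E8_6 : cartanReflChk chevE8 commWs_E8 6 = true := by decide +kernel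
theorem cartanRefl_E8_7 : cartanReflChk chevE8 commWs_E8 7 = true := by decide +kernel

theorem cartanRefl_E8 : CartanRefl chevE8 := by
  apply cartanRefl_of_chk _ commWs_E8 wsTab_E8
  intro i hi
  have hi8 : i < 8 := hi
  interval_cases i
  · exact cartanRefl_E8_0
  · exact cartanRefl_E8_1
  · exact cartanRefl_E8_2
  · exact cartanRefl_E8_3
  · exact cartanRefl_E8_4
  · exact cartanRefl_E8_5
  · exact cartanRefl_E8_6
  · exact cartanRefl_E8_7

/-- the matrix of the `i`-th fundamental reflection on the torus parameters: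
`zpv (sMat D i) c = c` with the `i`-th entry multiplied by `χ_c(p_i)⁻¹` -/
def sMat (D : ChevalleyDatum) (i : Fin D.rank) : Matrix (Fin D.rank) (Fin D.rank) ℤ :=
  Matrix.of fun j k => (if j = k then 1 else 0) - (if j = i then cartanMat D i k else 0)

/-- the matrix of a word on the torus parameters (letters `≥ rank` are skipped) -/
def wMat (D : ChevalleyDatum) : List ℕ → Matrix (Fin D.rank) (Fin D.rank) ℤ
  | [] => 1
  | i :: w => if h : i < D.rank then wMat D w * sMat D ⟨i, h⟩ else wMat D w

theorem wMat_nil (D : ChevalleyDatum) : wMat D [] = 1 := rfl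

theorem wMat_cons (D : ChevalleyDatum) (i : ℕ) (h : i < D.rank) (w : List ℕ) :
    wMat D (i :: w) = wMat D w * sMat D ⟨i, h⟩ := by
  show (if h : i < D.rank then wMat D w * sMat D ⟨i, h⟩ else wMat D w) = _
  rw [dif_pos h]

end Cfsg.Agent.E6Cov
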