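import Cfsg.Agent.Lib.E6Cov.WAct
import Cfsg.Agent.Lib.E6Cov.SubTorus
import Cfsg.Agent.Lib.Lead.TwBase

/-!
# S2373 cover trick, piece WACT-E -- STUB (helper24's farm, row S2373)

Compatibility of the parameter action with the embedding of the small datum (`E₆ ⊂ E₈`), generic in `(D, D', e)`.
`extP` pads a parameter tuple of `D` by `1`.  For a letter `i < D.rank`: `sMat D' ⟨i, _⟩` acts on `extP c` as `extP (sMat D ⟨i,_⟩ · c)`,
because for `j ≠ i` the entry is unchanged and for `j = i` the exponents are `δ_ik - cartanMat D' i k` with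
`cartanMat D' i k = D'.cartan k (D'.simple i) = D'.cartan k (e (D.simple i))` (`h2.simple`) `= D.cartan k (D.simple i)` for `k < D.rank`
(`h.cartan` / `cartan_e` in SubTorus.lean), while the factors with `k ≥ D.rank` are `1 ^ _ = 1`
(`Fintype.prod` over `Fin D'.rank` of a function that is `1` off the image of `Fin.castLE h.rank_le`: `Fintype.prod_of_injective`
or `Finset.prod_subset`).  Then induction on `w` with `wMat_cons` and `zpv_mul` (Lead/ZpowMat).
Keep names/statements/namespace (if you NEED one more hypothesis, add it and post on the board); aux names prefixed `wacte_`;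
no own sorry; scan; land; mark done.
-/

set_option autoImplicit false
set_option linter.unusedSectionVars false
set_option linter.unusedVariables false

namespace Cfsg.Agent.E6Cov

open Cfsg Cfsg.Lie Cfsg.Agent.Lead.Chev Cfsg.Agent.Lead.ZPM

variable {D D' : ChevalleyDatum} {e : ℕ → ℕ} {fx : List ℕ} {K : Type*} [Field K]

/-- padding a parameter tuple of the small datum by `1` -/
def extP (D D' : ChevalleyDatum) (c : Fin D.rank → Kˣ) : Fin D'.rank → Kˣ :=
  fun k => if hk : k.val < D.rank then c ⟨k.val, hk⟩ else 1

/-- PIECE WACT-E (one letter) -/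
theorem zpv_sMat_extP (h : SubOK D D' e) (h2 : SubOK2 D D' e fx) (i : ℕ) (hi : i < D.rank) (c : Fin D.rank → Kˣ) :
    zpv (sMat D' ⟨i, lt_of_lt_of_le hi h.rank_le⟩) (extP D D' c) = extP D D' (zpv (sMat D ⟨i, hi⟩) c) := by
  funext j
  by_cases hj : j.val < D.rank
  · have e0 : extP D D' (zpv (sMat D ⟨i, hi⟩) c) j = zpv (sMat D ⟨i, hi⟩) c ⟨j.val, hj⟩ := by
      unfold extP
      rw [dif_pos hj]
    rw [e0]
    unfold zpv
    symm
    apply Fintype.prod_of_injective (Fin.castLE h.rank_le) (Fin.castLE_injective _)
    · intro k' hk'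
      have hk2 : ¬ k'.val < D.rank := by
        intro hlt
        exact hk' ⟨⟨k'.val, hlt⟩, Fin.ext rfl⟩
      have : extP D D' c k' = 1 := by
        unfold extP
        rw [dif_neg hk2]
      rw [this, one_zpow]
    · intro k
      have e1 : extP D D' c (Fin.castLE h.rank_le k) = c k := by
        unfold extP
        have hk : (Fin.castLE h.rank_le k).val < D.rank := k.2
        rw [dif_pos hk]
        rfl
      rw [e1]
      congr 1
      unfold sMat
      simp only [Matrix.of_apply]
      have c1 : ((⟨j.val, hj⟩ : Fin D.rank) = k) ↔ (j = Fin.castLE h.rank_le k) := by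
        constructor
        · intro h1
          apply Fin.ext
          have := congrArg Fin.val h1
          simpa using this
        · intro h1
          apply Fin.ext
          have := congrArg Fin.val h1
          simpa using this
      have c2 : ((⟨j.val, hj⟩ : Fin D.rank) = ⟨i, hi⟩) ↔
          (j = (⟨i, lt_of_lt_of_le hi h.rank_le⟩ : Fin D'.rank)) := by
        constructor
        · intro h1
          apply Fin.ext
          have := congrArg Fin.val h1
          simpa using this
        · intro h1
          apply Fin.ext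
          have := congrArg Fin.val h1
          simpa using this
      have c3 : cartanMat D' ⟨i, lt_of_lt_of_le hi h.rank_le⟩ (Fin.castLE h.rank_le k) =
          cartanMat D ⟨i, hi⟩ k := by
        unfold cartanMat
        simp only [Matrix.of_apply, Fin.val_castLE]
        rw [h2.simple i hi]
        exact cartan_e h k.val k.2 _ (h2.simple_lt i hi)
      rw [c3]
      by_cases g1 : (⟨j.val, hj⟩ : Fin D.rank) = k
      · rw [if_pos g1, if_pos (c1.1 g1)]
        by_cases g2 : (⟨j.val, hj⟩ : Fin D.rank) = ⟨i, hi⟩
        · rw [if_pos g2, if_pos (c2.1 g2)]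
        · rw [if_neg g2, if_neg (fun h3 => g2 (c2.2 h3))]
      · rw [if_neg g1, if_neg (fun h3 => g1 (c1.2 h3))]
        by_cases g2 : (⟨j.val, hj⟩ : Fin D.rank) = ⟨i, hi⟩
        · rw [if_pos g2, if_pos (c2.1 g2)]
        · rw [if_neg g2, if_neg (fun h3 => g2 (c2.2 h3))]
  · have e0 : extP D D' (zpv (sMat D ⟨i, hi⟩) c) j = 1 := by
      unfold extP
      rw [dif_neg hj]
    rw [e0]
    unfold zpv
    apply Finset.prod_eq_one
    intro k' _
    have hji : j ≠ (⟨i, lt_of_lt_of_le hi h.rank_le⟩ : Fin D'.rank) := by
      intro h1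
      apply hj
      have := congrArg Fin.val h1
      simp only at this
      omega
    unfold sMat
    simp only [Matrix.of_apply]
    rw [if_neg hji, sub_zero]
    by_cases g1 : j = k'
    · rw [if_pos g1, zpow_one]
      unfold extP
      rw [dif_neg (by rw [← g1]; exact hj)]
    · rw [if_neg g1, zpow_zero]

/-- PIECE WACT-E: the action of a word of the small datum on padded parameters -/
theorem zpv_wMat_extP (h : SubOK D D' e) (h2 : SubOK2 D D' e fx) (w : List ℕ) (hw : ∀ i ∈ w, i < D.rank)
    (c : Fin D.rank → Kˣ) :
    zpv (wMat D' w) (extP D D' c) = extP D D' (zpv (wMat D w) c) := by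
  induction w generalizing c with
  | nil => rw [wMat_nil, wMat_nil, zpv_one, zpv_one]
  | cons i w ih =>
    have hi := hw i List.mem_cons_self
    have hw' : ∀ j ∈ w, j < D.rank := fun j hj => hw j (List.mem_cons_of_mem _ hj)
    rw [wMat_cons D' i (lt_of_lt_of_le hi h.rank_le) w, wMat_cons D i hi w, zpv_mul, zpv_mul,
      zpv_sMat_extP h h2 i hi c, ih hw']

end Cfsg.Agent.E6Cov
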