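import Cfsg.Agent.Lib.E6Cov.WAct
import Cfsg.Agent.Lib.Helper11.E8TCHIB8

/-!
# S2373 cover trick, piece WACT-I (helper24's farm, row S2373)

The torus map of `E₈` is injective (finite field).  Proof: `Helper20.E8T.card_torus : Nat.card (chevE8.diagonalSubgroup K) =
(Fintype.card K - 1) ^ 8` (Lib/Helper11/E8TCHIB8.lean), `torusHom_range` (Lead/ChevHCard; hypotheses from
`Helper20.E8T.e8F K : ChevFacts chevE8 K`: `.xadd .hsimple .hall .simple_lt`), and the domain `Fin 8 → Kˣ` has the same
cardinality (`Nat.card_fun`/`Fintype.card_fun`, `Fintype.card_units`): a surjection between finite sets of equal cardinality is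
injective (`Function.Injective` of `MonoidHom.rangeRestrict` via `Finite.injective_iff_surjective_of_equiv` or
`Fintype.bijective_iff_surjective_and_card`).  Alternative: `mem_ker_torusHom_iff` + the unimodular Cartan matrix
(`e8tchib_inv_mul`).
Keep names/statements/namespace (if you NEED one more hypothesis, add it and post on the board); aux names prefixed `wacti_`;
no own sorry; scan; land; mark done.
-/

set_option autoImplicit false
set_option linter.unusedSectionVars false
set_option linter.unusedVariables false

namespace Cfsg.Agent.E6Cov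

open Cfsg Cfsg.Lie Cfsg.Agent.Lead.Chev Cfsg.Agent.Lead.ZPM

/-- PIECE WACT-I: the torus parameters of `E₈` are unique -/
theorem torusHom8_injective {K : Type*} [Field K] [Fintype K] : Function.Injective (torusHom chevE8 K) := by
  classical
  have hF := Cfsg.Agent.Helper20.E8T.e8F K
  have hr : (torusHom chevE8 K).range = chevE8.diagonalSubgroup K :=
    torusHom_range chevE8 hF.xadd hF.hsimple hF.hall hF.simple_lt
  have hc1 : Nat.card (torusHom chevE8 K).range = (Fintype.card K - 1) ^ 8 := by
    rw [hr]
    exact Cfsg.Agent.Helper20.E8T.card_torus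
  have hc2 : Nat.card (Fin chevE8.rank → Kˣ) = (Fintype.card K - 1) ^ 8 := by
    rw [Nat.card_eq_fintype_card, Fintype.card_fun, Fintype.card_units, Fintype.card_fin]
    rfl
  have hbij : Function.Bijective (torusHom chevE8 K).rangeRestrict :=
    (Nat.bijective_iff_surjective_and_card _).2
      ⟨(torusHom chevE8 K).rangeRestrict_surjective, by rw [hc1, hc2]⟩
  intro a b hab
  apply hbij.1
  exact Subtype.ext hab

end Cfsg.Agent.E6Cov
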