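import Cfsg.Agent.Lib.E6Cov.WAct
import Cfsg.Agent.Lib.Helper28.OInvFIXN

/-!
# S2373 cover trick, piece WACT-S (helper24's farm, row S2373; proved by helper2)

Conjugation of a torus element by a fundamental `n_i`, on the parameters (generic datum).
`zpv M c j = ∏ k, c k ^ M j k` (Lead/ZpowMat), `torusHom D K c` has matrix `Tmat D (extC D c)` (Lead/ChevHCard: `torusHom_val`,
`chiU`, `chiU_val`, `extC_lt`), `sMat`, `CartanRefl` are in Lib/E6Cov/WAct.lean.
-/

set_option autoImplicit false
set_option linter.unusedSectionVars false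
set_option linter.unusedVariables false

namespace Cfsg.Agent.E6Cov

open Cfsg Cfsg.Lie Cfsg.Agent.Lead.Chev Cfsg.Agent.Lead.ZPM

variable {D : ChevalleyDatum} {K : Type*} [Field K]

/-- the exponent computation -/
theorem wacts_sum (D : ChevalleyDatum) (i k : Fin D.rank) (f : Fin D.rank → ℤ) :
    ∑ j, sMat D i j k * f j = f k - f i * D.cartan k.val (D.simple i.val) := by
  have h1 : ∀ j : Fin D.rank, sMat D i j k * f j =
      (if j = k then f j else 0) - (if j = i then cartanMat D i k * f j else 0) := by
    intro j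
    show ((if j = k then (1 : ℤ) else 0) - (if j = i then cartanMat D i k else 0)) * f j = _
    rw [sub_mul, ite_mul, ite_mul]
    simp only [one_mul, zero_mul]
  rw [Finset.sum_congr rfl (fun j _ => h1 j), Finset.sum_sub_distrib, Finset.sum_ite_eq', Finset.sum_ite_eq',
    if_pos (Finset.mem_univ _), if_pos (Finset.mem_univ _)]
  show f k - D.cartan k.val (D.simple i.val) * f i = _
  ring

/-- the character identity on units -/
theorem wacts_chiU (hC : CartanRefl D) (i : Fin D.rank) (c : Fin D.rank → Kˣ) (v : ℕ) (hv : v < D.nroots) :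
    chiU D c (D.reflectRoot i.val v) = chiU D (zpv (sMat D i) c) v := by
  unfold chiU zpv
  symm
  calc ∏ j, (∏ k, c k ^ sMat D i j k) ^ D.cartan j.val v
      = ∏ j, ∏ k, c k ^ (sMat D i j k * D.cartan j.val v) := by
        apply Finset.prod_congr rfl
        intro j _
        rw [← Finset.prod_zpow]
        apply Finset.prod_congr rfl
        intro k _
        rw [zpow_mul]
    _ = ∏ k, ∏ j, c k ^ (sMat D i j k * D.cartan j.val v) := Finset.prod_comm
    _ = ∏ k, c k ^ (∑ j, sMat D i j k * D.cartan j.val v) := by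
        apply Finset.prod_congr rfl
        intro k _
        rw [zpow_finsum]
    _ = ∏ k, c k ^ D.cartan k.val (D.reflectRoot i.val v) := by
        apply Finset.prod_congr rfl
        intro k _
        rw [hC i.val i.2 v hv k.val k.2, wacts_sum D i k (fun j => D.cartan j.val v)]

/-- PIECE WACT-S: `n_i⁻¹ T(c) n_i = T(s_i · c)` -/
theorem conj_torusHom_nGL (hF : ChevFacts D K) (hC : CartanRefl D) (i : Fin D.rank) (c : Fin D.rank → Kˣ) :
    (nGL D hF.xadd (D.simple i.val))⁻¹ * torusHom D K c * nGL D hF.xadd (D.simple i.val) =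
      torusHom D K (zpv (sMat D i) c) := by
  obtain ⟨c', hc', hval, hchi⟩ := Cfsg.Agent.Helper13.OInv.oinvfixn_conj hF (extC D c)
    (fun j _ => extC_ne_zero D c j) (torusHom D K c) (torusHom_val D c) [i.val]
    (by intro j hj; rw [List.mem_singleton] at hj; rw [hj]; exact i.2)
  rw [nWordGL_cons, nWordGL_nil, mul_one] at hval
  apply Units.ext
  rw [hval, torusHom_val]
  unfold Tmat
  congr 1
  funext idx
  rcases idx with j | v
  · rfl
  · simp only [Sum.elim_inr]
    rw [hchi v.val v.2]
    show chi D (extC D c) (D.reflectRoot i.val v.val) = _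
    rw [← chiU_val, ← chiU_val, wacts_chiU hC i c v.val v.2]

end Cfsg.Agent.E6Cov
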